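import Groth.Agent.L27.FinBC.GenericTools
import Groth.Agent.L27.NormalSepClosed.Algebra
import Groth.Agent.L27.StrictCover
import Mathlib.AlgebraicGeometry.FunctionField

/-! # Restriction to the generic fibre over normal bases with separably closed function field -/

universe u

open CategoryTheory CategoryTheory.Limits AlgebraicGeometry Opposite IsLocalRing Abelian

set_option backward.isDefEq.respectTransparency.types false
set_option linter.style.haveILetI false
set_option linter.unusedSectionVars false

noncomputable section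

namespace Groth.L27.FinBC

open Groth.L27.LimCoh Groth.L27.LimBC

theorem quasiCompact_point {K : Type u} [Field K] {Y : Scheme.{u}} (t : Spec (CommRingCat.of K) ⟶ Y) :
    QuasiCompact t :=
  ⟨fun U _ _ => Set.Subsingleton.isCompact fun _ _ _ _ => Subsingleton.elim _ _⟩

/-- A strictly henselian local ring is its own strict henselization. -/
theorem isStrictHenselization_self (R : Type u) [CommRing R] [HenselianLocalRing R] [IsSepClosed (ResidueField R)] :
    Hensel.IsStrictHenselization R R := by
  haveI hsc : @IsSepClosure (ResidueField R) _ (ResidueField R) _ (ResidueField.instAlgebra (R := R) (S := R)) := by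
    refine @IsSepClosure.mk _ _ _ _ (ResidueField.instAlgebra (R := R) (S := R)) inferInstance
      (@Algebra.IsSeparable.mk _ _ _ _ (ResidueField.instAlgebra (R := R) (S := R)) fun x => ?_)
    have hx : x = @algebraMap (ResidueField R) (ResidueField R) _ _ (ResidueField.instAlgebra (R := R) (S := R)) x := by
      obtain ⟨a, rfl⟩ := residue_surjective x
      exact (ResidueField.map_residue (algebraMap R R) a).symm
    rw [hx]
    exact @isSeparable_algebraMap (ResidueField R) _ (ResidueField R) _ (ResidueField.instAlgebra (R := R) (S := R)) x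
  refine ⟨inferInstance, hsc, fun T' _ _ f _ τ hτ => ⟨f, ⟨?_, ?_⟩, ?_⟩⟩
  · exact RingHom.comp_id f
  · intro x
    have := RingHom.congr_fun hτ (residue R x)
    rw [RingHom.comp_apply, ResidueField.map_residue, ResidueField.map_residue] at this
    exact this.symm
  · rintro g ⟨hg, -⟩
    exact RingHom.ext fun x => RingHom.congr_fun hg x

/-- Spectra of local rings are connected. -/
theorem connectedSpace_local (R : Type u) [CommRing R] [IsLocalRing R] :
    ConnectedSpace ↥(Spec (CommRingCat.of R)) := by
  refine @ConnectedSpace.mk _ _ (preconnectedSpace_iff_clopen.2 fun s hs => ?_) ⟨closedPoint R⟩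
  by_cases hc : closedPoint R ∈ s
  · exact Or.inr (Set.eq_univ_of_forall fun p => (IsLocalRing.specializes_closedPoint p).mem_open hs.isOpen hc)
  · exact Or.inl (Set.eq_empty_of_forall_notMem fun p =>
      (IsLocalRing.specializes_closedPoint p).mem_open hs.isClosed.isOpen_compl hc)

/-- Cancelling a monomorphism in a cartesian square. -/
theorem isPullback_of_comp_mono {C : Type*} [Category C] {P A B D E : C} {a : P ⟶ A} {b : P ⟶ B} {h : A ⟶ D}
    {j : B ⟶ D} (m : D ⟶ E) [Mono m] (c : IsPullback a b (h ≫ m) (j ≫ m)) : IsPullback a b h j := by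
  have w : a ≫ h = b ≫ j := (cancel_mono m).1 (by simpa using c.w)
  refine IsPullback.of_isLimit' ⟨w⟩ (PullbackCone.IsLimit.mk w
    (fun s => c.lift s.fst s.snd (s.condition_assoc m)) (fun s => c.lift_fst _ _ _) (fun s => c.lift_snd _ _ _)
    (fun s l h1 h2 => c.hom_ext (h1.trans (c.lift_fst _ _ _).symm) (h2.trans (c.lift_snd _ _ _).symm)))

section Main

variable {X Y : Scheme.{u}} [IsIntegral Y] [IsSepClosed (Y.residueField (genericPoint Y))]

/-- The generic point of `Y`, seen on a local scheme. -/
theorem exists_iso_generic (y : Y) [IsDomain (Y.presheaf.stalk y)] :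
    let T := Spec (Y.presheaf.stalk y)
    ∃ (e : Spec (Y.residueField (genericPoint Y)) ⟶ Spec T.functionField),
      IsIso e ∧ e ≫ T.fromSpecStalk (genericPoint T) ≫ Y.fromSpecStalk y =
        Y.fromSpecResidueField (genericPoint Y) ∧ IsSepClosed T.functionField := by
  intro T
  let t := Y.fromSpecResidueField (genericPoint Y)
  let u : Spec T.functionField ⟶ Y := T.fromSpecStalk (genericPoint T) ≫ Y.fromSpecStalk y
  haveI : IsPreimmersion u := MorphismProperty.comp_mem @IsPreimmersion _ _ inferInstance inferInstance
  haveI : Subsingleton ↥(Spec T.functionField) :=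
    inferInstanceAs (Subsingleton (PrimeSpectrum T.functionField))
  haveI : Subsingleton ↥(Spec (Y.residueField (genericPoint Y))) :=
    inferInstanceAs (Subsingleton (PrimeSpectrum (Y.residueField (genericPoint Y))))
  have hu : ∀ w, u w = genericPoint Y := fun w => by
    rw [Subsingleton.elim w (closedPoint T.functionField)]
    refine (Scheme.Hom.comp_apply _ _ _).trans ?_
    rw [Scheme.fromSpecStalk_closedPoint]
    refine (Specializes.antisymm ((genericPoint_spec Y).specializes (Set.mem_univ _)) ?_).eq.symm
    obtain ⟨p, hp⟩ : genericPoint Y ∈ Set.range (Y.fromSpecStalk y) := by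
      rw [Scheme.range_fromSpecStalk]
      exact (genericPoint_spec Y).specializes (Set.mem_univ y)
    rw [← hp]
    exact ((genericPoint_spec T).specializes (Set.mem_univ p)).map (Y.fromSpecStalk y).continuous
  have key : ∀ {A B : Scheme.{u}} (f : A ⟶ B) [IsPreimmersion f] [Subsingleton B] [IsReduced B],
      Function.Surjective f → IsIso f := fun {A B} f _ _ _ hf => by
    haveI : IsClosedImmersion f := IsClosedImmersion.of_isPreimmersion f (by rw [hf.range_eq]; exact isClosed_univ)
    haveI : Surjective f := ⟨hf⟩
    exact isIso_of_isClosedImmersion_of_surjective f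
  obtain ⟨p, -, -⟩ := Scheme.Pullback.exists_preimage_pullback (f := u) (g := t) (closedPoint T.functionField)
    (closedPoint (Y.residueField (genericPoint Y)))
    ((hu _).trans (Scheme.fromSpecResidueField_apply (genericPoint Y) _).symm)
  haveI : IsPreimmersion t := inferInstanceAs (IsPreimmersion (Y.fromSpecResidueField _))
  haveI : IsPreimmersion (pullback.fst u t) :=
    MorphismProperty.pullback_fst (P := @IsPreimmersion) _ _ inferInstance
  haveI : IsPreimmersion (pullback.snd u t) :=
    MorphismProperty.pullback_snd (P := @IsPreimmersion) _ _ inferInstance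
  haveI : IsIso (pullback.fst u t) := key _ fun b => ⟨p, Subsingleton.elim _ _⟩
  haveI : IsIso (pullback.snd u t) := key _ fun b => ⟨p, Subsingleton.elim _ _⟩
  let e := inv (pullback.snd u t) ≫ pullback.fst u t
  refine ⟨e, inferInstance, ?_, ?_⟩
  · show e ≫ u = t
    simp [e, pullback.condition]
  · let φ := Spec.preimage e
    haveI : IsIso φ := by
      haveI : IsIso (Spec.map φ) := by rw [Spec.map_preimage]; infer_instance
      haveI : IsIso (Scheme.Spec.{u}.map φ.op) := ‹IsIso (Spec.map φ)›
      haveI : IsIso φ.op := isIso_of_reflects_iso φ.op Scheme.Spec.{u}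
      exact isIso_of_op φ
    exact StrictCover.isSepClosed_of_ringEquiv (asIso φ).commRingCatIsoToRingEquiv.symm

variable (hY : Pi1.IsNormalScheme Y) (f : X ⟶ Y) (L : Set ℕ) (n : ℕ) (hf : EtAcyc.IsLocAcyclicN f L n)
  (F : EtCoh.Ab X) (hF : EtAcyc.IsLTorsion L F) (hlc : EtRest.IsLocallyConstant F)

include hY hf hF hlc in
/-- The strictly local form of the comparison with the generic fibre. -/
theorem bijective_local (x : X) (RX : Type u) [CommRing RX] [IsLocalRing RX] [Algebra (X.presheaf.stalk x) RX]
    [IsLocalHom (algebraMap (X.presheaf.stalk x) RX)] [Hensel.IsStrictHenselization (X.presheaf.stalk x) RX]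
    [PreservesFiniteLimits (EtCoh.pull (pullback.snd (pullback.fst f (Y.fromSpecResidueField (genericPoint Y)))
      (Hens2.specOf X x RX)))] (q : ℕ) (hq : q ≤ n) :
    Function.Bijective (EtCore.Hpull (pullback.snd (pullback.fst f (Y.fromSpecResidueField (genericPoint Y)))
      (Hens2.specOf X x RX)) ((EtCoh.pull (Hens2.specOf X x RX)).obj F) q) := by
  obtain ⟨_, _⟩ := StalkBC.henselian_strict x RX
  let y := f.base x
  let O := Y.presheaf.stalk y
  haveI : IsDomain O := (hY y).1
  haveI : IsIntegrallyClosed O := (hY y).2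
  haveI : IsSepClosed Y.functionField := by
    haveI : Subsingleton ↥(Spec Y.functionField) := inferInstanceAs (Subsingleton (PrimeSpectrum Y.functionField))
    haveI : IsSepClosed (ResidueField Y.functionField) := ‹IsSepClosed (Y.residueField (genericPoint Y))›
    exact StrictCover.isSepClosed_of_ringEquiv
      (RingEquiv.ofBijective (residue Y.functionField)
        ⟨(residue Y.functionField).injective, residue_surjective⟩).symm
  obtain ⟨hens, hsep⟩ := NormalSepClosed.isStrictlyHenselian (R := O) Y.functionField
  haveI : HenselianLocalRing O := hens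
  haveI : IsSepClosed (ResidueField O) := hsep
  haveI : Hensel.IsStrictHenselization O O := isStrictHenselization_self O
  letI : Algebra O RX := ((algebraMap (X.presheaf.stalk x) RX).comp (f.stalkMap x).hom).toAlgebra
  haveI : IsLocalHom (algebraMap O RX) := RingHom.isLocalHom_comp _ _
  let h : Spec (CommRingCat.of RX) ⟶ Spec O := Spec.map (CommRingCat.ofHom (algebraMap O RX))
  have hh : EtAcyc.IsAcyclicN h L n := hf x O RX (RingHom.comp_id _)
  let t := Y.fromSpecResidueField (genericPoint Y)
  let g₁ := pullback.fst f t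
  let sX := Hens2.specOf X x RX
  let ι := Y.fromSpecStalk y
  have hhι : sX ≫ f = h ≫ ι := by
    show (Spec.map _ ≫ X.fromSpecStalk x) ≫ f = Spec.map _ ≫ Y.fromSpecStalk y
    rw [Category.assoc, ← Scheme.SpecMap_stalkMap_fromSpecStalk, ← Spec.map_comp_assoc]
    rfl
  haveI hne : Nonempty ↥(Spec (CommRingCat.of RX)) := ⟨closedPoint RX⟩
  haveI : ConnectedSpace ↥(Spec (CommRingCat.of RX)) := connectedSpace_local RX
  -- the sheaf is pulled back from the base
  obtain ⟨A, ⟨α⟩⟩ := exists_iso_K RX (L28.LocConst.isLocallyConstant_pull sX F hlc)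
  have hA : EtAcyc.IsLTorsion L (ConstSect.K A (Spec (CommRingCat.of RX))) :=
    CompTransfer.isLTorsion_of_epi α.hom (CompTransfer.isLTorsion_pull L sX hF)
  let G := ConstSect.K A (Spec O)
  have hG : EtAcyc.IsLTorsion L G :=
    isLTorsion_K fun a => exists_nsmul_eq_zero_of_isLTorsion_K hA a
  let β : (EtCoh.pull sX).obj F ≅ (EtCoh.pull h).obj G := α ≪≫ ((EtCore.pullConstIso h).app A).symm
  -- the generic point of the local scheme
  let T := Spec O
  obtain ⟨e, _, he, _⟩ := exists_iso_generic (Y := Y) y
  let ξ := genericPoint T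
  let R := T.functionField
  letI : HenselianLocalRing R := inferInstance
  haveI : IsSepClosed (ResidueField R) := AffineEfface.isSepClosed_residueField R
  letI : Algebra (T.presheaf.stalk ξ) R := Algebra.id _
  haveI : IsLocalHom (algebraMap (T.presheaf.stalk ξ) R) := inferInstanceAs (IsLocalHom (RingHom.id R))
  haveI : Hensel.IsStrictHenselization (T.presheaf.stalk ξ) R := isStrictHenselization_self R
  let j := Hens2.specOf T ξ R
  have hj : j = T.fromSpecStalk ξ := by
    show Spec.map (CommRingCat.ofHom (RingHom.id _)) ≫ _ = _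
    rw [CommRingCat.ofHom_id, Spec.map_id, Category.id_comp]
  let V := EtCoh.top T
  let h₀ : pullback V.hom h ⟶ T := EtAcyc.prj h V
  haveI : IsIso V.hom := inferInstanceAs (IsIso (𝟙 T))
  haveI : IsAffineHom h := isAffineHom_of_isAffine _
  haveI : QuasiCompact h := inferInstance
  haveI : QuasiSeparated h := inferInstance
  haveI : QuasiCompact h₀ := MorphismProperty.pullback_fst (P := @QuasiCompact) _ _ inferInstance
  haveI : QuasiSeparated h₀ := MorphismProperty.pullback_fst (P := @QuasiSeparated) _ _ inferInstance
  have hsnd : inv (pullback.snd V.hom h) ≫ h₀ = h := by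
    rw [IsIso.inv_comp_eq]
    show pullback.fst V.hom h = pullback.snd V.hom h ≫ h
    rw [← pullback.condition]
    exact (Category.comp_id _).symm
  obtain ⟨hu, hz⟩ := (Groth.Agent.S3510.result h L n).1 hh V G hG
  let a := pullback.snd g₁ sX
  let s := pullback.snd h₀ j
  haveI := EtSite.preservesFiniteLimits_pull s
  have hsG := bijective_snd_of_acyclic h₀ ξ R G n hu hz q hq
  -- the square over the generic point
  have c0 : IsPullback a (pullback.fst g₁ sX ≫ pullback.snd f t ≫ e) (h ≫ ι) (j ≫ ι) := by
    have c1 : IsPullback a (pullback.fst g₁ sX ≫ pullback.snd f t) (sX ≫ f) t :=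
      (((IsPullback.of_hasPullback g₁ sX).flip).paste_vert (IsPullback.of_hasPullback f t))
    refine c1.of_iso (Iso.refl _) (Iso.refl _) (asIso e) (Iso.refl _) (by simp) ?_ ?_ ?_
    · simp
    · simp [hhι]
    · simp only [Iso.refl_hom, Category.comp_id, asIso_hom]
      rw [hj]
      exact he.symm
  have c := isPullback_of_comp_mono ι c0
  have c' : IsPullback (a ≫ inv (pullback.snd V.hom h)) (pullback.fst g₁ sX ≫ pullback.snd f t ≫ e) h₀ j := by
    refine c.of_iso (Iso.refl _) (asIso (inv (pullback.snd V.hom h))) (Iso.refl _) (Iso.refl _) ?_ ?_ ?_ ?_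
    · simp
    · simp
    · simp [hsnd]
    · simp
  let k := c'.isoPullback.hom
  haveI : IsIso k := inferInstance
  have hk : k ≫ s = pullback.fst g₁ sX ≫ pullback.snd f t ≫ e := c'.isoPullback_hom_snd
  haveI := EtSite.preservesFiniteLimits_pull j
  haveI := EtSite.preservesFiniteLimits_pull (s ≫ j)
  haveI := EtSite.preservesFiniteLimits_pull (a ≫ h)
  haveI := EtSite.preservesFiniteLimits_pull h
  haveI : IsDomain ↑O := ‹_›
  haveI : Nonempty ↥T := ⟨closedPoint O⟩
  haveI : ConnectedSpace ↥T := inferInstanceAs (ConnectedSpace (PrimeSpectrum O))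
  haveI : ConnectedSpace ↥(Spec (CommRingCat.of R)) := inferInstanceAs (ConnectedSpace (PrimeSpectrum R))
  have hjG : Function.Bijective (EtCore.Hpull j G q) := by
    rcases Nat.eq_zero_or_pos q with rfl | hq0
    · exact bijective_Hpull_zero_K j A
    · haveI : Subsingleton (EtCoh.H T G q) := @EtSite.subsingleton_H _ _ hens hsep G q hq0
      haveI := EtSite.subsingleton_H R ((EtCoh.pull j).obj G) q hq0
      exact ⟨fun _ _ _ => Subsingleton.elim _ _, fun b => ⟨0, Subsingleton.elim _ _⟩⟩
  have hsjG : Function.Bijective (EtCore.Hpull (s ≫ j) G q) := bijective_Hpull_comp s j rfl G q hsG hjG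
  have hah : Function.Bijective (EtCore.Hpull (a ≫ h) G q) :=
    bijective_Hpull_iso_comp k (s ≫ j) (by rw [← Category.assoc, hk, c.w]) G q hsjG
  haveI : PreservesFiniteLimits (EtCoh.pull (Spec.map (CommRingCat.ofHom (algebraMap O RX)))) :=
    EtSite.preservesFiniteLimits_pull _
  have hha : Function.Bijective (EtCore.Hpull a ((EtCoh.pull h).obj G) q) :=
    bijective_Hpull_right a h rfl G q (bijective_Hpull_local (algebraMap O RX) G q) hah
  exact bijective_Hpull_congr a β.symm q hha

include hY hf hF hlc in
/-- Cohomology of the generic fibre. -/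
theorem generic_fibre
    [PreservesFiniteLimits (EtCoh.pull (pullback.fst f (Y.fromSpecResidueField (genericPoint Y))))] :
    (∀ q : ℕ, q ≤ n →
      Function.Bijective (EtCore.Hpull (pullback.fst f (Y.fromSpecResidueField (genericPoint Y))) F q)) ∧
    Function.Injective (EtCore.Hpull (pullback.fst f (Y.fromSpecResidueField (genericPoint Y))) F (n + 1)) := by
  let t := Y.fromSpecResidueField (genericPoint Y)
  haveI : QuasiCompact t := quasiCompact_point _
  let g := pullback.fst f t
  haveI : QuasiCompact g := MorphismProperty.pullback_fst (P := @QuasiCompact) _ _ inferInstance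
  haveI : QuasiSeparated g := MorphismProperty.pullback_fst (P := @QuasiSeparated) _ _ inferInstance
  have H : ∀ x : X, ∃ (K : Type u) (_ : Field K) (_ : IsSepClosed K) (ξ : Spec (CommRingCat.of K) ⟶ X),
      ξ.base default = x ∧ Function.Bijective ((EtCoh.stalk ξ).map ((EtCoh.pullPushAdj g).unit.app F)) ∧
      ∀ q : ℕ, 0 < q → q ≤ n → IsZero ((EtCoh.stalk ξ).obj ((EtCoh.Rpush g q).obj ((EtCoh.pull g).obj F))) := by
    intro x
    obtain ⟨R, _, _, _, _, hR⟩ := L05.Henselization.exists_isStrictHenselization (X.presheaf.stalk x)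
    haveI := hR
    obtain ⟨_, _⟩ := StalkBC.henselian_strict x R
    refine ⟨ResidueField R, inferInstance, inferInstance, Hens2.geomPt X x R, ?_, ?_⟩
    · refine (Scheme.Hom.comp_apply _ _ _).trans (Eq.trans (congrArg (Hens2.specOf X x R) ?_) (specOf_closedPoint x R))
      rw [Subsingleton.elim (default : Spec (CommRingCat.of (ResidueField R))) (closedPoint (ResidueField R))]
      exact IsLocalRing.comap_closedPoint (residue R)
    haveI := EtSite.preservesFiniteLimits_pull (pullback.snd g (Hens2.specOf X x R))
    exact stalk_acyclic_le g x R F n fun q hq => bijective_local hY f L n hf F hF hlc x R q hq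
  let φ := (EtCoh.pullPushAdj g).unit.app F
  haveI : Mono φ := by
    have : Sheaf.IsLocallyInjective φ := EtSite.isLocallyInjective_of_some_stalks _ fun y => by
      obtain ⟨K, _, _, ξ, hξ, hb, -⟩ := H y
      exact ⟨K, _, inferInstance, ξ, hξ, hb.1⟩
    exact Sheaf.mono_of_isLocallyInjective _
  haveI : Epi φ :=
    (Sheaf.isLocallySurjective_iff_epi' (φ := φ)).1 (EtSite.isLocallySurjective_of_some_stalks _ fun y => by
      obtain ⟨K, _, _, ξ, hξ, hb, -⟩ := H y
      exact ⟨K, _, inferInstance, ξ, hξ, hb.2⟩)
  haveI : IsIso φ := isIso_of_mono_of_epi φ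
  obtain ⟨hb, hi⟩ := CompTransfer.edge g n ((EtCoh.pull g).obj F) fun p h1 h2 => EtSite.isZero_of_stalks _ fun y => by
    obtain ⟨K, _, _, ξ, hξ, -, hz⟩ := H y
    exact ⟨K, _, inferInstance, ξ, hξ, hz p h1 h2⟩
  have hc : ∀ q, Function.Bijective fun e : EtCoh.H X F q => Ext.comp e (Ext.mk₀ φ) (add_zero q) := fun q =>
    Function.bijective_iff_has_inverse.2 ⟨fun e => Ext.comp e (Ext.mk₀ (inv φ)) (add_zero q),
      fun e => by simp, fun e => by simp⟩
  refine ⟨fun q hq => ?_, ?_⟩
  · exact Eq.subst (motive := Function.Bijective) (funext fun e => (EtSite.Hpull_apply g F q e).symm)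
      ((hb q hq).comp (hc q))
  · exact Eq.subst (motive := Function.Injective) (funext fun e => (EtSite.Hpull_apply g F (n + 1) e).symm)
      (hi.comp (hc (n + 1)).1)

end Main

end Groth.L27.FinBC
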