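import Groth.Agent.L27.FinBC.FibreAcyclicN
import Groth.Agent.L27.FLC.Const
import Groth.Agent.L28.LocConstAb.Et
import Groth.Agent.L28.LocConst.PullInst
import Groth.Agent.L27.CompTransfer.Edge

/-! # Constant sheaves on strictly local schemes, acyclicity in a range of degrees -/

universe u

open CategoryTheory CategoryTheory.Limits AlgebraicGeometry Opposite IsLocalRing Abelian

set_option backward.isDefEq.respectTransparency.types false
set_option linter.style.haveILetI false
set_option linter.unusedSectionVars false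

noncomputable section

namespace Groth.L27.FinBC

open Groth.L27.LimCoh Groth.L27.LimBC

/-- A sheaf which is constant on the site over the terminal object is constant. -/
theorem nonempty_iso_K_of_restr {X : Scheme.{u}} {F : EtCoh.Ab X} {A : AddCommGrpCat.{u + 1}}
    (α : EtCoh.restr F (EtCoh.top X) ≅ (L28.LocConstAb.constOver (EtCoh.top X)).obj A) :
    Nonempty (F ≅ ConstSect.K A X) := by
  let G : X.Etale ⥤ Over (EtCoh.top X) :=
    { obj := fun Q => Over.mk (FLC.toTop Q)
      map := fun g => Over.homMk g (FLC.comp_toTop g) }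
  haveI : G.Faithful := ⟨fun h => congrArg CommaMorphism.left h⟩
  haveI : G.Full := ⟨fun f => ⟨f.left, Over.OverMorphism.ext rfl⟩⟩
  haveI : G.EssSurj := ⟨fun Z => ⟨Z.left, ⟨Over.isoMk (Iso.refl _) ((EtCore.topIsTerminal X).hom_ext _ _)⟩⟩⟩
  haveI : G.IsEquivalence := {}
  haveI : G.IsContinuous X.smallEtaleTopology (X.smallEtaleTopology.over (EtCoh.top X)) :=
    Functor.isContinuous_of_coverPreserving (compatiblePreservingOfFlat _ _) ⟨fun {Q} S hS => by
      rw [GrothendieckTopology.mem_over_iff]
      refine X.smallEtaleTopology.superset_covering (fun V g hg => ?_) hS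
      rw [Sieve.overEquiv_iff]
      exact ⟨V, g, Over.homMk (𝟙 V) ((EtCore.topIsTerminal X).hom_ext _ _), hg,
        Over.OverMorphism.ext (Category.id_comp g).symm⟩⟩
  haveI : G.IsCocontinuous X.smallEtaleTopology (X.smallEtaleTopology.over (EtCoh.top X)) := ⟨fun {Q} {S} hS => by
    refine X.smallEtaleTopology.superset_covering (fun V g hg => ?_) (GrothendieckTopology.mem_over_iff _ _ |>.1 hS)
    have h1 := S.downward_closed ((Sieve.overEquiv_iff S g).1 hg)
      (Over.homMk (U := G.obj V) (V := Over.mk (g ≫ (G.obj Q).hom)) (𝟙 V) ((EtCore.topIsTerminal X).hom_ext _ _))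
    show S.arrows (G.map g)
    convert h1 using 1
    exact Over.OverMorphism.ext (Category.id_comp g).symm⟩
  let i0 : F ≅ (G.sheafPushforwardContinuous AddCommGrpCat.{u + 1} X.smallEtaleTopology
      (X.smallEtaleTopology.over (EtCoh.top X))).obj (EtCoh.restr F (EtCoh.top X)) :=
    (fullyFaithfulSheafToPresheaf _ _).preimageIso (Iso.refl _)
  exact ⟨i0 ≪≫ (G.sheafPushforwardContinuous AddCommGrpCat.{u + 1} X.smallEtaleTopology
      (X.smallEtaleTopology.over (EtCoh.top X))).mapIso α ≪≫
    L28.LocConst.constCompat (J := X.smallEtaleTopology) (K := X.smallEtaleTopology.over (EtCoh.top X)) G A⟩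

/-- Locally constant sheaves on strictly local schemes are constant. -/
theorem exists_iso_K (R : Type u) [CommRing R] [HenselianLocalRing R] [IsSepClosed (ResidueField R)]
    {F : EtCoh.Ab (Spec (CommRingCat.of R))} (hF : EtRest.IsLocallyConstant F) :
    ∃ A : AddCommGrpCat.{u + 1}, Nonempty (F ≅ ConstSect.K A (Spec (CommRingCat.of R))) := by
  obtain ⟨ι, U, hU, h⟩ := hF
  obtain ⟨i, z, hz⟩ := hU (closedPoint R)
  obtain ⟨M, _, ⟨α⟩⟩ := h i
  obtain ⟨y, -⟩ := EtSite.exists_fiber (EtSite.closedPt R) (U i) z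
    (hz.trans (IsLocalRing.comap_closedPoint (residue R)).symm |>.trans
      (congrArg _ (Subsingleton.elim _ _)))
  obtain ⟨σ, -⟩ := EtSite.exists_section R (U i) y
  exact ⟨_, nonempty_iso_K_of_restr (L28.LocConstAb.restrIso σ α)⟩

/-- Torsion of a constant sheaf is torsion of its group. -/
theorem exists_nsmul_eq_zero_of_isLTorsion_K {X : Scheme.{u}} [Nonempty X] {L : Set ℕ} {A : AddCommGrpCat.{u + 1}}
    (h : EtAcyc.IsLTorsion L (ConstSect.K A X)) (a : A) : ∃ m, EtAcyc.PrimesIn L m ∧ m • a = 0 := by
  let x : (EtCoh.top X).left := Classical.arbitrary X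
  obtain ⟨V, g, m, ⟨v, -⟩, hm, h0⟩ := h (EtCoh.top X) (ConstSect.cst A _ a) x
  refine ⟨m, hm, ?_⟩
  haveI : Nonempty V.left := ⟨v⟩
  refine ConstSect.cst_injective A V ?_
  rw [map_nsmul, map_zero, ← ConstSect.map_cst A g a]
  exact h0

/-- Constant sheaves of torsion groups are torsion. -/
theorem isLTorsion_K {X : Scheme.{u}} {L : Set ℕ} {A : AddCommGrpCat.{u + 1}}
    (h : ∀ a : A, ∃ m, EtAcyc.PrimesIn L m ∧ m • a = 0) : EtAcyc.IsLTorsion L (ConstSect.K A X) := fun U s x => by
  obtain ⟨W, g, w, a, hw, e⟩ := ConstSect.exists_locally_cst A s x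
  obtain ⟨m, hm, h0⟩ := h a
  refine ⟨W, g, m, ⟨w, hw⟩, hm, ?_⟩
  show m • (ConstSect.K A X).obj.map g.op s = 0
  rw [e, ← map_nsmul, h0, map_zero]

/-- Global constants restrict bijectively between connected schemes. -/
theorem bijective_Hpull_zero_K {X Y : Scheme.{u}} (f : Y ⟶ X) [PreservesFiniteLimits (EtCoh.pull f)]
    [ConnectedSpace X] [ConnectedSpace Y] (A : AddCommGrpCat.{u + 1}) :
    Function.Bijective (EtCore.Hpull f (ConstSect.K A X) 0) := by
  refine (CompTransfer.bijective_Hpull_zero_iff f _).2 ?_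
  let k := (EtCoh.push f).map ((EtCore.pullConstIso f).hom.app A)
  have hk := ConcreteCategory.bijective_of_isIso (((sheafToPresheaf _ _).map k).app (op (EtCoh.top X)))
  refine (Function.Bijective.of_comp_iff' hk _).1 ?_
  have hX := AddEquiv.ofBijective (ConstSect.cst A (EtCoh.top X)) FLC.bijective_cst_top
  refine (Function.Bijective.of_comp_iff _ (FLC.bijective_cst_top (M := A) (X := X))).1 ?_
  have e : (fun a => (ConstSect.cmp A f).hom.app (op (EtCoh.top X)) (ConstSect.cst A (EtCoh.top X) a)) =
      fun a => (ConstSect.K A Y).obj.map (EtCore.bcTopIso f).hom.op (ConstSect.cst A (EtCoh.top Y) a) :=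
    funext fun a => (ConstSect.cmp_top A f a).trans (ConstSect.map_cst A _ a).symm
  show Function.Bijective (fun a => (ConstSect.cmp A f).hom.app (op (EtCoh.top X)) (ConstSect.cst A (EtCoh.top X) a))
  rw [e]
  exact (ConcreteCategory.bijective_of_isIso ((ConstSect.K A Y).obj.map (EtCore.bcTopIso f).hom.op)).comp
    FLC.bijective_cst_top

/-- Composition of bijective restrictions. -/
theorem bijective_Hpull_comp {U W Y : Scheme.{u}} (h : U ⟶ W) (a : W ⟶ Y) {k : U ⟶ Y} (w : h ≫ a = k)
    [PreservesFiniteLimits (EtCoh.pull h)] [PreservesFiniteLimits (EtCoh.pull a)]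
    [PreservesFiniteLimits (EtCoh.pull k)] (G : EtCoh.Ab Y) (q : ℕ)
    (hh : Function.Bijective (EtCore.Hpull h ((EtCoh.pull a).obj G) q))
    (ha : Function.Bijective (EtCore.Hpull a G q)) :
    Function.Bijective (EtCore.Hpull k G q) := by
  haveI := isIso_gamma h a w G
  refine (Function.Bijective.of_comp_iff' (ConcreteCategory.bijective_of_isIso ((EtCoh.HF U q).map (gamma h a w G))) _).1 ?_
  exact Eq.subst (motive := Function.Bijective) (funext fun e => (Hpull_comp h a w q G e)) (hh.comp ha)

/-- Global sections over a strictly local scheme are the stalk at the closed point. -/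
theorem bijective_top_of_stalk (R : Type u) [CommRing R] [HenselianLocalRing R]
    [IsSepClosed (ResidueField R)] {F G : EtCoh.Ab (Spec (CommRingCat.of R))} (φ : F ⟶ G)
    (h : Function.Bijective ((EtCoh.stalk (EtSite.closedPt R)).map φ)) :
    Function.Bijective (φ.hom.app (op (EtCoh.top (Spec (CommRingCat.of R))))) := by
  let P := Scheme.pointSmallEtale (EtSite.closedPt R)
  let T := EtCoh.top (Spec (CommRingCat.of R))
  have e : (EtCoh.stalk (EtSite.closedPt R)).map φ ∘ P.toPresheafFiber T (EtSite.topPt R) F.obj =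
      P.toPresheafFiber T (EtSite.topPt R) G.obj ∘ φ.hom.app (op T) :=
    funext fun s => P.toPresheafFiber_naturality_apply φ.hom T (EtSite.topPt R) s
  refine (Function.Bijective.of_comp_iff' (EtSite.bijective_toPresheafFiber R G.obj) _).1 ?_
  exact Eq.subst (motive := Function.Bijective) e (h.comp (EtSite.bijective_toPresheafFiber R F.obj))

section Stalk

variable {U W : Scheme.{u}} (h : U ⟶ W) [QuasiCompact h] [QuasiSeparated h] (y : W) (R : Type u)
  [CommRing R] [IsLocalRing R] [Algebra (W.presheaf.stalk y) R] [IsLocalHom (algebraMap (W.presheaf.stalk y) R)]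
  [Hensel.IsStrictHenselization (W.presheaf.stalk y) R] [HenselianLocalRing R] [IsSepClosed (ResidueField R)]
  (M : EtCoh.Ab W) [PreservesFiniteLimits (EtCoh.pull (pullback.snd h (Hens2.specOf W y R)))] (n : ℕ)

/-- Bijective restriction in a range of degrees gives acyclicity at the point in that range. -/
theorem stalk_acyclic_le
    (hb : ∀ q ≤ n, Function.Bijective
      (EtCore.Hpull (pullback.snd h (Hens2.specOf W y R)) ((EtCoh.pull (Hens2.specOf W y R)).obj M) q)) :
    Function.Bijective ((EtCoh.stalk (Hens2.geomPt W y R)).map ((EtCoh.pullPushAdj h).unit.app M)) ∧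
    ∀ q : ℕ, 0 < q → q ≤ n → IsZero ((EtCoh.stalk (Hens2.geomPt W y R)).obj
      ((EtCoh.Rpush h q).obj ((EtCoh.pull h).obj M))) := by
  let η := Hens2.specOf W y R
  let a := pullback.snd h η
  let gW := pullback.fst h η
  haveI := EtSite.preservesFiniteLimits_pull gW
  haveI := EtSite.preservesFiniteLimits_pull η
  refine ⟨?_, fun q hq hqn => ?_⟩
  · haveI := isIso_bcQ_specOf h y R a gW (IsPullback.of_hasPullback h η) 0 ((EtCoh.pull h).obj M)
    haveI := CompTransfer.isIso_baseChange0_of_bcQ η h gW a
      (IsPullback.of_hasPullback h η).w ((EtCoh.pull h).obj M)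
    let T := op (EtCoh.top (Spec (CommRingCat.of R)))
    let c := EtCoh.baseChange0 h η a gW (IsPullback.of_hasPullback h η).w ((EtCoh.pull h).obj M)
    let k := (EtCoh.push a).map ((L28.AcycCrit.kap h η a gW (IsPullback.of_hasPullback h η).w).hom.app M)
    refine bijective_stalk_geomPt y R _ ?_
    have h0 := (CompTransfer.bijective_Hpull_zero_iff a _).1 (hb 0 (Nat.zero_le n))
    have h1 := (ConcreteCategory.bijective_of_isIso (((sheafToPresheaf _ _).map k).app T)).comp h0
    have e : c.hom.app T ∘ ((EtCoh.pull η).map ((EtCoh.pullPushAdj h).unit.app M)).hom.app T =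
        k.hom.app T ∘ ((EtCoh.pullPushAdj a).unit.app ((EtCoh.pull η).obj M)).hom.app T :=
      funext fun z => congrArg (fun m => m.hom.app T z)
        (L28.AcycCrit.unit_square h η a gW (IsPullback.of_hasPullback h η).w M)
    haveI : IsIso c := inferInstance
    exact ((ConcreteCategory.bijective_of_isIso (((sheafToPresheaf _ _).map c).app T)).of_comp_iff' _).1
      (e.symm ▸ h1)
  · obtain ⟨i⟩ := StalkRpush.nonempty_natIso h y R q
    refine IsZero.of_iso ?_ (i.app ((EtCoh.pull h).obj M))
    let K := L28.AcycCrit.kap h η a gW (IsPullback.of_hasPullback h η).w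
    refine IsZero.of_iso ?_ ((EtCoh.HF (pullback h η) q).mapIso (K.app M)).symm
    haveI := EtSite.subsingleton_H R ((EtCoh.pull η).obj M) q hq
    haveI : Subsingleton (EtCoh.H (pullback h η) ((EtCoh.pull a).obj ((EtCoh.pull η).obj M)) q) :=
      (Equiv.ofBijective _ (hb q hqn)).subsingleton_congr.1 inferInstance
    exact AddCommGrpCat.isZero_of_subsingleton
      (AddCommGrpCat.of (EtCoh.H (pullback h η) ((EtCoh.pull a).obj ((EtCoh.pull η).obj M)) q))

/-- Acyclicity in a range of degrees gives bijective restriction to strict localizations. -/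
theorem bijective_snd_of_acyclic (hu : IsIso ((EtCoh.pullPushAdj h).unit.app M))
    (hz : ∀ q : ℕ, 1 ≤ q → q ≤ n → IsZero ((EtCoh.Rpush h q).obj ((EtCoh.pull h).obj M))) (q : ℕ) (hqn : q ≤ n) :
    Function.Bijective
      (EtCore.Hpull (pullback.snd h (Hens2.specOf W y R)) ((EtCoh.pull (Hens2.specOf W y R)).obj M) q) := by
  let η := Hens2.specOf W y R
  let a := pullback.snd h η
  let gW := pullback.fst h η
  haveI := EtSite.preservesFiniteLimits_pull gW
  haveI := EtSite.preservesFiniteLimits_pull η
  let K := L28.AcycCrit.kap h η a gW (IsPullback.of_hasPullback h η).w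
  rcases Nat.eq_zero_or_pos q with rfl | hq
  · haveI := isIso_bcQ_specOf h y R a gW (IsPullback.of_hasPullback h η) 0 ((EtCoh.pull h).obj M)
    haveI := CompTransfer.isIso_baseChange0_of_bcQ η h gW a
      (IsPullback.of_hasPullback h η).w ((EtCoh.pull h).obj M)
    let T := op (EtCoh.top (Spec (CommRingCat.of R)))
    let c := EtCoh.baseChange0 h η a gW (IsPullback.of_hasPullback h η).w ((EtCoh.pull h).obj M)
    let k := (EtCoh.push a).map (K.hom.app M)
    refine (CompTransfer.bijective_Hpull_zero_iff a _).2 ?_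
    haveI : IsIso ((EtCoh.stalk (EtSite.closedPt R)).map ((EtCoh.pull η).map ((EtCoh.pullPushAdj h).unit.app M))) :=
      inferInstance
    have h0 := bijective_top_of_stalk R _ (ConcreteCategory.bijective_of_isIso
      ((EtCoh.stalk (EtSite.closedPt R)).map ((EtCoh.pull η).map ((EtCoh.pullPushAdj h).unit.app M))))
    have e : c.hom.app T ∘ ((EtCoh.pull η).map ((EtCoh.pullPushAdj h).unit.app M)).hom.app T =
        k.hom.app T ∘ ((EtCoh.pullPushAdj a).unit.app ((EtCoh.pull η).obj M)).hom.app T :=
      funext fun z => congrArg (fun m => m.hom.app T z)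
        (L28.AcycCrit.unit_square h η a gW (IsPullback.of_hasPullback h η).w M)
    haveI : IsIso c := inferInstance
    exact ((ConcreteCategory.bijective_of_isIso (((sheafToPresheaf _ _).map k).app T)).of_comp_iff' _).1
      (e ▸ (ConcreteCategory.bijective_of_isIso (((sheafToPresheaf _ _).map c).app T)).comp h0)
  · obtain ⟨i⟩ := StalkRpush.nonempty_natIso h y R q
    haveI := EtSite.subsingleton_H R ((EtCoh.pull η).obj M) q hq
    have h1 : IsZero ((EtCoh.HF (pullback h η) q).obj ((EtCoh.pull a).obj ((EtCoh.pull η).obj M))) :=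
      IsZero.of_iso (IsZero.of_iso ((EtCoh.stalk (Hens2.geomPt W y R)).map_isZero (hz q hq hqn))
        (i.app ((EtCoh.pull h).obj M)).symm) ((EtCoh.HF (pullback h η) q).mapIso (K.app M))
    haveI : Subsingleton (EtCoh.H (pullback h η) ((EtCoh.pull a).obj ((EtCoh.pull η).obj M)) q) :=
      AddCommGrpCat.subsingleton_of_isZero h1
    exact ⟨fun _ _ _ => Subsingleton.elim _ _, fun b => ⟨0, Subsingleton.elim _ _⟩⟩

end Stalk

end Groth.L27.FinBC
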