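import Groth.Agent.L27.FinBC.Local
import Groth.Agent.L27.LimBC.LAFibre
import Groth.Agent.L27.StalkBC.TopUnit
import Groth.Agent.L05.CurveNorm.Scheme
import Mathlib.AlgebraicGeometry.PullbackCarrier

/-! # Local acyclicity over strictly local rings and stalkwise acyclicity -/

universe u

open CategoryTheory CategoryTheory.Limits AlgebraicGeometry Opposite IsLocalRing
open scoped TensorProduct

set_option backward.isDefEq.respectTransparency.types false
set_option linter.style.haveILetI false
set_option linter.unusedSectionVars false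

noncomputable section

namespace Groth.L27.FinBC

open Groth.L27.LimCoh Groth.L27.LimBC

/-- Local acyclicity, through weakly étale strictly henselian neighbourhoods. -/
def StrongLA {Y T : Scheme.{u}} (g : Y ⟶ T) (G : EtCoh.Ab Y) : Prop :=
  ∀ (R A : Type u) [CommRing R] [HenselianLocalRing R] [IsSepClosed (ResidueField R)] [CommRing A]
    [HenselianLocalRing A] [IsSepClosed (ResidueField A)] [Algebra R A] [IsLocalHom (algebraMap R A)]
    (a : Spec (CommRingCat.of R) ⟶ T) [WeaklyEtale a] (b : Spec (CommRingCat.of A) ⟶ Y) [WeaklyEtale b],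
    b ≫ g = Spec.map (CommRingCat.ofHom (algebraMap R A)) ≫ a →
    ∀ (Ω : Type u) [Field Ω] [IsSepClosed Ω] [Algebra R Ω]
      [PreservesFiniteLimits (EtCoh.pull (Spec.map (CommRingCat.ofHom (algebraMap A (A ⊗[R] Ω)))))] (q : ℕ),
      Function.Bijective (EtCore.Hpull (Spec.map (CommRingCat.ofHom (algebraMap A (A ⊗[R] Ω))))
        ((EtCoh.pull b).obj G) q)

theorem strongLA_of_isLARel {X S : Scheme.{u}} {f : X ⟶ S} {F : EtCoh.Ab X} (hla : SGA4h.IsLARel f F)
    {Y T : Scheme.{u}} (g : Y ⟶ T) (u : Y ⟶ X) [WeaklyEtale u] (v : T ⟶ S) [WeaklyEtale v] (w : u ≫ f = g ≫ v) :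
    StrongLA g ((EtCoh.pull u).obj F) := by
  intro R A _ _ _ _ _ _ _ _ a _ b _ hab Ω _ _ _ _ q
  letI : Algebra (S.presheaf.stalk ((a ≫ v) (closedPoint R))) R :=
    (Scheme.stalkClosedPointTo (a ≫ v)).hom.toAlgebra
  obtain ⟨_, _⟩ := isStrictHenselization_closedPointTo R (a ≫ v)
  have hs : Hens2.specOf S ((a ≫ v) (closedPoint R)) R = a ≫ v :=
    Scheme.Spec_stalkClosedPointTo_fromSpecStalk (a ≫ v)
  have h := bijective_Hpull_of_isLARel hla _ R A (b ≫ u)
    (by rw [hs, Category.assoc, w, ← Category.assoc, hab, Category.assoc]) Ω q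
  exact bijective_Hpull_congr _ ((EtCore.pullComp b u).app F) q h

/-- A local morphism of strictly henselian schemes induces bijections on cohomology. -/
theorem bijective_Hpull_local {A B : Type u} [CommRing A] [HenselianLocalRing A] [IsSepClosed (ResidueField A)]
    [CommRing B] [HenselianLocalRing B] [IsSepClosed (ResidueField B)] (ψ : A →+* B) [IsLocalHom ψ]
    [PreservesFiniteLimits (EtCoh.pull (Spec.map (CommRingCat.ofHom ψ)))]
    (F : EtCoh.Ab (Spec (CommRingCat.of A))) (q : ℕ) :
    Function.Bijective (EtCore.Hpull (Spec.map (CommRingCat.ofHom ψ)) F q) := by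
  rcases Nat.eq_zero_or_pos q with rfl | hq
  · exact (CompTransfer.bijective_Hpull_zero_iff _ F).2 (StalkBC.bijective_unit_top ψ F)
  · haveI := EtSite.subsingleton_H A F q hq
    haveI := EtSite.subsingleton_H B ((EtCoh.pull (Spec.map (CommRingCat.ofHom ψ))).obj F) q hq
    exact ⟨fun _ _ _ => Subsingleton.elim _ _, fun y => ⟨0, Subsingleton.elim _ _⟩⟩

/-- Restriction through an intermediate scheme. -/
theorem bijective_Hpull_right {U W Y : Scheme.{u}} (h : U ⟶ W) (a : W ⟶ Y) {k : U ⟶ Y} (w : h ≫ a = k)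
    [PreservesFiniteLimits (EtCoh.pull h)] [PreservesFiniteLimits (EtCoh.pull a)]
    [PreservesFiniteLimits (EtCoh.pull k)] (G : EtCoh.Ab Y) (q : ℕ)
    (ha : Function.Bijective (EtCore.Hpull a G q)) (hk : Function.Bijective (EtCore.Hpull k G q)) :
    Function.Bijective (EtCore.Hpull h ((EtCoh.pull a).obj G) q) := by
  haveI := isIso_gamma h a w G
  refine (Function.Bijective.of_comp_iff _ ha).1 ?_
  exact Eq.subst (motive := Function.Bijective) (funext fun e => (Hpull_comp h a w q G e).symm)
    ((ConcreteCategory.bijective_of_isIso ((EtCoh.HF U q).map (gamma h a w G))).comp hk)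

/-- The same, solving for the second map. -/
theorem bijective_Hpull_left {U W Y : Scheme.{u}} (h : U ⟶ W) (a : W ⟶ Y) {k : U ⟶ Y} (w : h ≫ a = k)
    [PreservesFiniteLimits (EtCoh.pull h)] [PreservesFiniteLimits (EtCoh.pull a)]
    [PreservesFiniteLimits (EtCoh.pull k)] (G : EtCoh.Ab Y) (q : ℕ)
    (hh : Function.Bijective (EtCore.Hpull h ((EtCoh.pull a).obj G) q))
    (hk : Function.Bijective (EtCore.Hpull k G q)) :
    Function.Bijective (EtCore.Hpull a G q) := by
  haveI := isIso_gamma h a w G
  refine (Function.Bijective.of_comp_iff' hh _).1 ?_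
  exact Eq.subst (motive := Function.Bijective) (funext fun e => (Hpull_comp h a w q G e).symm)
    ((ConcreteCategory.bijective_of_isIso ((EtCoh.HF U q).map (gamma h a w G))).comp hk)

/-- A tensor product with a local integral algebra over a strictly henselian ring is local. -/
theorem isLocalRing_tensor (R A O : Type u) [CommRing R] [HenselianLocalRing R] [IsSepClosed (ResidueField R)]
    [CommRing A] [IsLocalRing A] [Algebra R A] [IsLocalHom (algebraMap R A)] [CommRing O] [IsLocalRing O]
    [Algebra R O] [Algebra.IsIntegral R O] : IsLocalRing (A ⊗[R] O) := by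
  haveI := isLocalHom_of_integral R O
  haveI : Algebra.IsAlgebraic (ResidueField R) (ResidueField O) := by
    haveI : Algebra.IsIntegral (ResidueField R) (ResidueField O) := by
      refine ⟨fun x => ?_⟩
      obtain ⟨y, rfl⟩ := IsLocalRing.residue_surjective x
      exact ((Algebra.IsIntegral.isIntegral (R := R) y).map (IsScalarTower.toAlgHom R O (ResidueField O))).tower_top
    infer_instance
  haveI := Groth.L05.isPurelyInseparable_of_isSepClosed_base (ResidueField R) (ResidueField O)
  let sA := Spec.map (CommRingCat.ofHom (algebraMap R A))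
  let sO := Spec.map (CommRingCat.ofHom (algebraMap R O))
  let rO := Spec.map (CommRingCat.ofHom (residue O))
  haveI : IsClosedImmersion (Spec.map (CommRingCat.ofHom (residue R))) :=
    IsClosedImmersion.spec_of_surjective _ IsLocalRing.residue_surjective
  haveI : UniversallyInjective (rO ≫ sO) := by
    have e : rO ≫ sO = L05.CurveNorm.ext (ResidueField R) (ResidueField O) ≫
        Spec.map (CommRingCat.ofHom (residue R)) := by
      rw [← Spec.map_comp, ← Spec.map_comp]; rfl
    haveI := L05.CurveNorm.universallyInjective_ext (ResidueField R) (ResidueField O)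
    rw [e]; exact MorphismProperty.comp_mem _ _ _ inferInstance inferInstance
  have pb := isPullback_SpecMap_of_isPushout _ _ _ _ (CommRingCat.isPushout_tensorProduct R A O)
  let p₁ := Spec.map (CommRingCat.ofHom (algebraMap A (A ⊗[R] O)))
  let p₂ := Spec.map (CommRingCat.ofHom (Algebra.TensorProduct.includeRight (R := R) (A := A) (B := O)).toRingHom)
  -- lifting points of the closed fibre
  have hlift : ∀ z : Spec (CommRingCat.of (A ⊗[R] O)), p₂ z = closedPoint O →
      ∃ w : ↥(pullback sA (rO ≫ sO)), pb.lift (pullback.fst sA (rO ≫ sO)) (pullback.snd sA (rO ≫ sO) ≫ rO)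
        (by rw [Category.assoc]; exact pullback.condition) w = z := by
    intro z hz
    let ℓ := pb.lift (pullback.fst sA (rO ≫ sO)) (pullback.snd sA (rO ≫ sO) ≫ rO)
      (by rw [Category.assoc]; exact pullback.condition)
    have sq : IsPullback ℓ (pullback.snd sA (rO ≫ sO)) p₂ rO := by
      refine IsPullback.of_right (v₁₃ := sA) (h₁₂ := p₁) (h₂₂ := sO) ?_ (pb.lift_snd _ _ _) pb
      rw [pb.lift_fst]
      exact IsPullback.of_hasPullback sA (rO ≫ sO)
    obtain ⟨w, hw, -⟩ := Scheme.Pullback.exists_preimage_pullback (f := p₂) (g := rO) z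
      (closedPoint (ResidueField O)) (hz.trans (IsLocalRing.comap_closedPoint (residue O)).symm)
    refine ⟨sq.isoPullback.inv w, ?_⟩
    rw [← Scheme.Hom.comp_apply, sq.isoPullback_inv_fst]
    exact hw
  have hR : sA (closedPoint A) = closedPoint R := IsLocalRing.comap_closedPoint (algebraMap R A)
  haveI : Nontrivial (A ⊗[R] O) := by
    obtain ⟨w, -, -⟩ := Scheme.Pullback.exists_preimage_pullback (f := sA) (g := sO) (closedPoint A) (closedPoint O)
      (hR.trans (IsLocalRing.comap_closedPoint (algebraMap R O)).symm)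
    exact PrimeSpectrum.nonempty_iff_nontrivial.1 ⟨pb.isoPullback.inv w⟩
  obtain ⟨M, hM⟩ := Ideal.exists_maximal (A ⊗[R] O)
  refine IsLocalRing.of_unique_max_ideal ⟨M, hM, fun M' hM' => ?_⟩
  -- maximal ideals lie over both closed points
  have hp : ∀ (N : Ideal (A ⊗[R] O)) (h : N.IsMaximal),
      p₁ ⟨N, h.isPrime⟩ = closedPoint A ∧ p₂ ⟨N, h.isPrime⟩ = closedPoint O := by
    intro N h
    haveI := h
    haveI : Algebra.IsIntegral A (A ⊗[R] O) := inferInstance
    have h1 : p₁ ⟨N, h.isPrime⟩ = closedPoint A := PrimeSpectrum.ext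
      (IsLocalRing.eq_maximalIdeal (Ideal.isMaximal_comap_of_isIntegral_of_isMaximal (R := A) N))
    refine ⟨h1, PrimeSpectrum.ext ?_⟩
    let P : Ideal O := N.comap (Algebra.TensorProduct.includeRight (R := R) (A := A) (B := O)).toRingHom
    haveI : P.IsPrime := Ideal.comap_isPrime _ _
    show P = maximalIdeal O
    refine IsLocalRing.eq_maximalIdeal (Ideal.isMaximal_of_isIntegral_of_isMaximal_comap (R := R) P ?_)
    have h2 : sO (p₂ ⟨N, h.isPrime⟩) = closedPoint R := by
      rw [← Scheme.Hom.comp_apply, ← pb.w, Scheme.Hom.comp_apply]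
      exact (congrArg sA h1).trans hR
    have h3 : P.comap (algebraMap R O) = maximalIdeal R := congrArg PrimeSpectrum.asIdeal h2
    rw [h3]; exact maximalIdeal.isMaximal R
  obtain ⟨w, hw⟩ := hlift ⟨M, hM.isPrime⟩ (hp M hM).2
  obtain ⟨w', hw'⟩ := hlift ⟨M', hM'.isPrime⟩ (hp M' hM').2
  have : w' = w := by
    haveI : UniversallyInjective (pullback.fst sA (rO ≫ sO)) := MorphismProperty.pullback_fst _ _ inferInstance
    refine (pullback.fst sA (rO ≫ sO)).injective ?_
    rw [← pb.lift_fst (pullback.fst sA (rO ≫ sO)) (pullback.snd sA (rO ≫ sO) ≫ rO)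
      (by rw [Category.assoc]; exact pullback.condition), Scheme.Hom.comp_apply, Scheme.Hom.comp_apply, hw, hw']
    exact (hp M' hM').1.trans (hp M hM).1.symm
  exact congrArg PrimeSpectrum.asIdeal (hw'.symm.trans ((congrArg _ this).trans hw))

/-- Bijective restriction to the base change of a strict localization gives acyclicity at the point. -/
theorem stalk_acyclic {U W : Scheme.{u}} (h : U ⟶ W) [QuasiCompact h] [QuasiSeparated h] (y : W) (R : Type u)
    [CommRing R] [IsLocalRing R] [Algebra (W.presheaf.stalk y) R] [IsLocalHom (algebraMap (W.presheaf.stalk y) R)]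
    [Hensel.IsStrictHenselization (W.presheaf.stalk y) R] [HenselianLocalRing R] [IsSepClosed (ResidueField R)]
    (M : EtCoh.Ab W) [PreservesFiniteLimits (EtCoh.pull (pullback.snd h (Hens2.specOf W y R)))]
    (hb : ∀ q, Function.Bijective
      (EtCore.Hpull (pullback.snd h (Hens2.specOf W y R)) ((EtCoh.pull (Hens2.specOf W y R)).obj M) q)) :
    Function.Bijective ((EtCoh.stalk (Hens2.geomPt W y R)).map ((EtCoh.pullPushAdj h).unit.app M)) ∧
    ∀ q : ℕ, 0 < q → IsZero ((EtCoh.stalk (Hens2.geomPt W y R)).obj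
      ((EtCoh.Rpush h q).obj ((EtCoh.pull h).obj M))) := by
  let η := Hens2.specOf W y R
  let a := pullback.snd h η
  let gW := pullback.fst h η
  haveI := EtSite.preservesFiniteLimits_pull gW
  haveI := EtSite.preservesFiniteLimits_pull η
  refine ⟨?_, fun q hq => ?_⟩
  · haveI := isIso_bcQ_specOf h y R a gW (IsPullback.of_hasPullback h η) 0 ((EtCoh.pull h).obj M)
    haveI := CompTransfer.isIso_baseChange0_of_bcQ η h gW a
      (IsPullback.of_hasPullback h η).w ((EtCoh.pull h).obj M)
    let T := op (EtCoh.top (Spec (CommRingCat.of R)))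
    let c := EtCoh.baseChange0 h η a gW (IsPullback.of_hasPullback h η).w ((EtCoh.pull h).obj M)
    let k := (EtCoh.push a).map ((L28.AcycCrit.kap h η a gW (IsPullback.of_hasPullback h η).w).hom.app M)
    refine bijective_stalk_geomPt y R _ ?_
    have h0 := (CompTransfer.bijective_Hpull_zero_iff a _).1 (hb 0)
    have h1 := (ConcreteCategory.bijective_of_isIso (((sheafToPresheaf _ _).map k).app T)).comp h0
    have e : c.hom.app T ∘ ((EtCoh.pull η).map ((EtCoh.pullPushAdj h).unit.app M)).hom.app T =
        k.hom.app T ∘ ((EtCoh.pullPushAdj a).unit.app ((EtCoh.pull η).obj M)).hom.app T :=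
      funext fun z => congrArg (fun m => m.hom.app T z)
        (L28.AcycCrit.unit_square h η a gW (IsPullback.of_hasPullback h η).w M)
    haveI : IsIso c := inferInstance
    exact ((ConcreteCategory.bijective_of_isIso (((sheafToPresheaf _ _).map c).app T)).of_comp_iff' _).1
      (e.symm ▸ h1)
  · obtain ⟨i⟩ := StalkRpush.nonempty_natIso h y R q
    refine IsZero.of_iso ?_ (i.app ((EtCoh.pull h).obj M))
    let K := L28.AcycCrit.kap h η a gW (IsPullback.of_hasPullback h η).w
    refine IsZero.of_iso ?_ ((EtCoh.HF (pullback h η) q).mapIso (K.app M)).symm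
    haveI := EtSite.subsingleton_H R ((EtCoh.pull η).obj M) q hq
    haveI : Subsingleton (EtCoh.H (pullback h η) ((EtCoh.pull a).obj ((EtCoh.pull η).obj M)) q) :=
      (Equiv.ofBijective _ (hb q)).subsingleton_congr.1 inferInstance
    exact AddCommGrpCat.isZero_of_subsingleton
      (AddCommGrpCat.of (EtCoh.H (pullback h η) ((EtCoh.pull a).obj ((EtCoh.pull η).obj M)) q))

/-- Acyclicity at all points gives bijective restriction. -/
theorem bijective_Hpull_of_stalks {U W : Scheme.{u}} (h : U ⟶ W) [PreservesFiniteLimits (EtCoh.pull h)]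
    (M : EtCoh.Ab W)
    (H : ∀ y : W, ∃ (K : Type u) (_ : Field K) (_ : IsSepClosed K) (ξ : Spec (CommRingCat.of K) ⟶ W),
      ξ.base default = y ∧ Function.Bijective ((EtCoh.stalk ξ).map ((EtCoh.pullPushAdj h).unit.app M)) ∧
      ∀ q : ℕ, 0 < q → IsZero ((EtCoh.stalk ξ).obj ((EtCoh.Rpush h q).obj ((EtCoh.pull h).obj M)))) (q : ℕ) :
    Function.Bijective (EtCore.Hpull h M q) := by
  let φ := (EtCoh.pullPushAdj h).unit.app M
  haveI : Mono φ := by
    have : Sheaf.IsLocallyInjective φ := EtSite.isLocallyInjective_of_some_stalks _ fun y => by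
      obtain ⟨K, _, _, ξ, hξ, hb, -⟩ := H y
      exact ⟨K, _, inferInstance, ξ, hξ, hb.1⟩
    exact Sheaf.mono_of_isLocallyInjective _
  haveI : Epi φ :=
    (Sheaf.isLocallySurjective_iff_epi' (φ := φ)).1 (EtSite.isLocallySurjective_of_some_stalks _ fun y => by
      obtain ⟨K, _, _, ξ, hξ, hb, -⟩ := H y
      exact ⟨K, _, inferInstance, ξ, hξ, hb.2⟩)
  haveI : IsIso φ := isIso_of_mono_of_epi φ
  refine EtSite.bijective_Hpull h M (fun p hp => EtSite.isZero_of_stalks _ fun y => ?_) q
  obtain ⟨K, _, _, ξ, hξ, -, hz⟩ := H y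
  exact ⟨K, _, inferInstance, ξ, hξ, hz p hp⟩

end Groth.L27.FinBC
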