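import Groth.Agent.L27.FinBC.Main
import Groth.Agent.L27.FinBC.LAPoint
import Groth.Agent.L27.StalkBC.FibreCritPoint

/-! # Finite base change for strict localizations of locally acyclic morphisms -/

universe u

open CategoryTheory CategoryTheory.Limits AlgebraicGeometry Opposite IsLocalRing
open scoped TensorProduct

set_option backward.isDefEq.respectTransparency.types false
set_option linter.style.haveILetI false
set_option linter.unusedSectionVars false

noncomputable section

namespace Groth.L27.FinBC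

open Groth.L27.LimCoh Groth.L27.LimBC

theorem isPullback_congr' {C : Type*} [Category C] {P A B D : C} {a : P ⟶ A} {b : P ⟶ B} {f f' : A ⟶ D}
    {g g' : B ⟶ D} (hf : f = f') (hg : g = g') (h : IsPullback a b f g) : IsPullback a b f' g' := by
  subst hf hg
  exact h

/-- Local acyclicity over a pullback square with a strictly henselian source. -/
theorem bijective_of_strongLA {Y T : Scheme.{u}} {g : Y ⟶ T} {G : EtCoh.Ab Y} (hs : StrongLA g G)
    (R A : Type u) [CommRing R] [HenselianLocalRing R] [IsSepClosed (ResidueField R)] [CommRing A]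
    [HenselianLocalRing A] [IsSepClosed (ResidueField A)] [Algebra R A] [IsLocalHom (algebraMap R A)]
    (a : Spec (CommRingCat.of R) ⟶ T) [WeaklyEtale a] (b : Spec (CommRingCat.of A) ⟶ Y) [WeaklyEtale b]
    (hab : b ≫ g = Spec.map (CommRingCat.ofHom (algebraMap R A)) ≫ a)
    (Ω : Type u) [Field Ω] [IsSepClosed Ω] [Algebra R Ω] {P : Scheme.{u}} (k : P ⟶ Spec (CommRingCat.of A))
    (k₂ : P ⟶ Spec (CommRingCat.of Ω))
    (pb : IsPullback k k₂ (Spec.map (CommRingCat.ofHom (algebraMap R A)))
      (Spec.map (CommRingCat.ofHom (algebraMap R Ω))))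
    [PreservesFiniteLimits (EtCoh.pull k)] (q : ℕ) :
    Function.Bijective (EtCore.Hpull k ((EtCoh.pull b).obj G) q) := by
  let a₀ := Spec.map (CommRingCat.ofHom (algebraMap A (A ⊗[R] Ω)))
  have pb₀ := isPullback_SpecMap_of_isPushout _ _ _ _ (CommRingCat.isPushout_tensorProduct R A Ω)
  haveI := EtSite.preservesFiniteLimits_pull a₀
  exact bijective_Hpull_iso_comp (pb.isoIsPullback _ _ pb₀).hom a₀ (IsPullback.isoIsPullback_hom_fst ..)
    _ q (hs R A a b hab Ω q)

/-- Restriction to the generic geometric fibre is bijective over an absolutely integrally closed domain. -/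
theorem bijective_Hpull_generic {Y T : Scheme.{u}} {g : Y ⟶ T} {G : EtCoh.Ab Y} (hs : StrongLA g G)
    {R : Type u} [CommRing R] (η : Spec (CommRingCat.of R) ⟶ T) [WeaklyEtale η]
    (N : Type u) [CommRing N] [IsDomain N] [Algebra R N] [Algebra.IsIntegral R N]
    (hroots : L20.IntCover.HasRoots N) {W : Scheme.{u}} (a : W ⟶ pullback g η) (bW : W ⟶ Spec (CommRingCat.of N))
    (cW : IsPullback a bW (pullback.snd g η) (Spec.map (CommRingCat.ofHom (algebraMap R N))))
    (Ω : Type u) [Field Ω] [IsSepClosed Ω] [Algebra N Ω] (hinj : Function.Injective (algebraMap N Ω))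
    {U : Scheme.{u}} (h : U ⟶ W) (bU : U ⟶ Spec (CommRingCat.of Ω))
    (cU : IsPullback h bU bW (Spec.map (CommRingCat.ofHom (algebraMap N Ω))))
    [PreservesFiniteLimits (EtCoh.pull h)] (q : ℕ) :
    Function.Bijective (EtCore.Hpull h ((EtCoh.pull a).obj ((EtCoh.pull (pullback.fst g η)).obj G)) q) := by
  let sR := Spec.map (CommRingCat.ofHom (algebraMap R N))
  haveI : IsIntegralHom sR := by
    rw [IsIntegralHom.SpecMap_iff]
    exact algebraMap_isIntegral_iff.mpr inferInstance
  haveI : IsAffineHom h := MorphismProperty.of_isPullback (P := @IsAffineHom) cU.flip inferInstance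
  refine bijective_Hpull_of_stalks h _ (fun y => ?_) q
  let n := bW y
  let O := (Spec (CommRingCat.of N)).presheaf.stalk n
  letI : Algebra N O := (StructureSheaf.toStalk N n).hom.toAlgebra
  haveI : IsLocalization.AtPrime O n.asIdeal := StructureSheaf.IsLocalization.to_stalk N n
  haveI : IsDomain O := IsLocalization.isDomain_of_le_nonZeroDivisors O n.asIdeal.primeCompl_le_nonZeroDivisors
  have hO : L20.IntCover.HasRoots O := L20.IntCover.hasRoots_localization hroots n.asIdeal.primeCompl
  haveI : HenselianLocalRing O := L20.IntCover.henselianLocalRing hO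
  haveI : IsAlgClosed (ResidueField O) := IsAlgClosed.of_exists_root _ fun p hp hirr => by
    obtain ⟨P, hP, hdeg, hmon⟩ := Polynomial.lifts_and_natDegree_eq_and_monic
      (Polynomial.map_surjective (residue O) IsLocalRing.residue_surjective p |> fun ⟨P, hP⟩ =>
        (⟨P, hP⟩ : p ∈ Polynomial.lifts (residue O))) hp
    obtain ⟨x, hx⟩ := hO P hmon (hdeg ▸ hirr.natDegree_pos)
    exact ⟨residue O x, by rw [← hP, Polynomial.eval_map, Polynomial.eval₂_at_apply, hx.eq_zero, map_zero]⟩
  haveI : IsLocalHom (algebraMap O O) := ⟨fun _ h => h⟩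
  let r := sR n
  obtain ⟨R', _, _, _, _, hR'⟩ := L05.Henselization.exists_isStrictHenselization
    ((Spec (CommRingCat.of R)).presheaf.stalk r)
  haveI := hR'
  obtain ⟨_, _⟩ := StalkBC.henselian_strict r R'
  haveI hOs : Hensel.IsStrictHenselization ((Spec (CommRingCat.of N)).presheaf.stalk n) O :=
    Groth.L05.HensTensor.isStrictHenselization_self O
  obtain ⟨φ, _, hφ⟩ := StalkBC.exists_strictMap sR n R' O
  have hφi := isIntegral_strictMap sR n R' O φ hφ
  letI : Algebra R' O := φ.toAlgebra
  haveI : IsLocalHom (algebraMap R' O) := inferInstanceAs (IsLocalHom φ)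
  haveI : Algebra.IsIntegral R' O := algebraMap_isIntegral_iff.mp hφi
  let ηr := Hens2.specOf (Spec (CommRingCat.of R)) r R'
  let ηn := Hens2.specOf (Spec (CommRingCat.of N)) n O
  haveI : WeaklyEtale ηr := Acyclic0.weaklyEtale_fromStrict r R'
  haveI : WeaklyEtale ηn := Acyclic0.weaklyEtale_fromStrict n O
  have hφη : Spec.map (CommRingCat.ofHom φ) ≫ ηr = ηn ≫ sR := StalkBC.specOf_comp sR n R' O φ hφ
  -- the base change to the strict localizations
  let pR := pullback.snd g η
  let P' := pullback pR ηr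
  let WO := pullback bW ηn
  let w : WO ⟶ P' := pullback.lift (pullback.fst bW ηn ≫ a) (pullback.snd bW ηn ≫ Spec.map (CommRingCat.ofHom φ))
    (by
      rw [Category.assoc, cW.w, ← Category.assoc, pullback.condition, Category.assoc]
      exact (congrArg (pullback.snd bW ηn ≫ ·) hφη.symm).trans (Category.assoc _ _ _).symm)
  have cO : IsPullback w (pullback.snd bW ηn) (pullback.snd pR ηr) (Spec.map (CommRingCat.ofHom φ)) := by
    refine IsPullback.of_right (v₁₃ := pR) (h₁₂ := pullback.fst pR ηr) (h₂₂ := ηr) ?_ (pullback.lift_snd _ _ _)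
      (IsPullback.of_hasPullback pR ηr)
    exact isPullback_congr (pullback.lift_fst _ _ _).symm hφη.symm ((IsPullback.of_hasPullback bW ηn).paste_horiz cW)
  obtain ⟨y₁, hy₁, hy₁'⟩ := Scheme.Pullback.exists_preimage_pullback (f := bW) (g := ηn) y (closedPoint O)
    (specOf_closedPoint n O).symm
  let x₁ := w y₁
  have hx₁ : pullback.snd pR ηr x₁ = closedPoint R' := by
    rw [← Scheme.Hom.comp_apply, cO.w, Scheme.Hom.comp_apply]
    refine (congrArg (Spec.map (CommRingCat.ofHom φ)) hy₁').trans ?_
    exact IsLocalRing.comap_closedPoint φ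
  obtain ⟨Rx, _, _, _, _, hRx⟩ := L05.Henselization.exists_isStrictHenselization (P'.presheaf.stalk x₁)
  haveI := hRx
  obtain ⟨_, _⟩ := StalkBC.henselian_strict x₁ Rx
  let ηx := Hens2.specOf P' x₁ Rx
  haveI : WeaklyEtale ηx := Acyclic0.weaklyEtale_fromStrict x₁ Rx
  let ψ := Spec.preimage (ηx ≫ pullback.snd pR ηr)
  have hψ : Spec.map ψ = ηx ≫ pullback.snd pR ηr := Spec.map_preimage _
  haveI : IsLocalHom ψ.hom :=
    ((IsLocalRing.local_hom_TFAE ψ.hom).out 0 4).2 (PrimeSpectrum.ext_iff.1
      (show (Spec.map ψ) (closedPoint Rx) = closedPoint R' by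
        rw [hψ, Scheme.Hom.comp_apply, specOf_closedPoint]; exact hx₁))
  letI : Algebra R' Rx := ψ.hom.toAlgebra
  haveI : IsLocalHom (algebraMap R' Rx) := inferInstanceAs (IsLocalHom ψ.hom)
  -- the strictly henselian neighbourhood of y
  let A := Rx ⊗[R'] O
  haveI : IsLocalRing A := isLocalRing_tensor R' Rx O
  haveI : Algebra.IsIntegral Rx A := inferInstance
  haveI : HenselianLocalRing A := Groth.L05.henselianLocalRing_of_integral (A := Rx) A
  haveI : IsSepClosed (ResidueField A) := isSepClosed_residue Rx A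
  haveI := isLocalHom_of_integral Rx A
  let p₁ := Spec.map (CommRingCat.ofHom (algebraMap Rx A))
  let p₂ := Spec.map (CommRingCat.ofHom (Algebra.TensorProduct.includeRight (R := R') (A := Rx) (B := O)).toRingHom)
  have pbA : IsPullback p₁ p₂ (Spec.map ψ) (Spec.map (CommRingCat.ofHom φ)) :=
    isPullback_SpecMap_of_isPushout _ _ _ _ (CommRingCat.isPushout_tensorProduct R' Rx O)
  rw [hψ] at pbA
  let e := cO.lift (p₁ ≫ ηx) p₂ ((Category.assoc _ _ _).trans pbA.w)
  have hew : e ≫ w = p₁ ≫ ηx := cO.lift_fst _ _ _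
  have ce : IsPullback p₁ e ηx w :=
    IsPullback.of_bot (v₂₁ := pullback.snd bW ηn) (v₂₂ := pullback.snd pR ηr)
      (h₃₁ := Spec.map (CommRingCat.ofHom φ))
      (by rw [show e ≫ pullback.snd bW ηn = p₂ from cO.lift_snd _ _ _]; exact pbA) hew.symm cO
  haveI : WeaklyEtale e := MorphismProperty.of_isPullback (P := @WeaklyEtale) ce inferInstance
  haveI : WeaklyEtale (pullback.fst bW ηn) := MorphismProperty.pullback_fst _ _ inferInstance
  let eW : Spec (CommRingCat.of A) ⟶ W := e ≫ pullback.fst bW ηn
  haveI : WeaklyEtale eW := inferInstance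
  have hp₁ : p₁ (closedPoint A) = closedPoint Rx := IsLocalRing.comap_closedPoint (algebraMap Rx A)
  have hey : e (closedPoint A) = y₁ := by
    obtain ⟨z, hz1, hz2⟩ := Scheme.Pullback.exists_preimage_pullback (f := ηx) (g := w) (closedPoint Rx) y₁
      (specOf_closedPoint x₁ Rx)
    let z' := ce.isoPullback.inv z
    have h1 : p₁ z' = closedPoint Rx := by
      rw [← Scheme.Hom.comp_apply, ce.isoPullback_inv_fst]; exact hz1
    have h2 : z' = closedPoint A := by
      refine PrimeSpectrum.ext ?_
      haveI : z'.asIdeal.IsMaximal := by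
        refine Ideal.isMaximal_of_isIntegral_of_isMaximal_comap (R := Rx) z'.asIdeal ?_
        have h3 : z'.asIdeal.comap (algebraMap Rx A) = maximalIdeal Rx := congrArg PrimeSpectrum.asIdeal h1
        rw [h3]; exact maximalIdeal.isMaximal Rx
      exact IsLocalRing.eq_maximalIdeal this
    rw [← h2, ← Scheme.Hom.comp_apply, ce.isoPullback_inv_snd]
    exact hz2
  have hy : eW (closedPoint A) = y := by
    rw [Scheme.Hom.comp_apply, hey]; exact hy₁
  letI : Algebra (W.presheaf.stalk (eW (closedPoint A))) A := (Scheme.stalkClosedPointTo eW).hom.toAlgebra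
  obtain ⟨_, _⟩ := isStrictHenselization_closedPointTo A eW
  have hη : Hens2.specOf W (eW (closedPoint A)) A = eW := Scheme.Spec_stalkClosedPointTo_fromSpecStalk eW
  refine ⟨ResidueField A, inferInstance, inferInstance, Hens2.geomPt W (eW (closedPoint A)) A, ?_, ?_⟩
  · refine Eq.trans ?_ hy
    refine (Scheme.Hom.comp_apply _ _ _).trans (Eq.trans
      (congrArg (Hens2.specOf W (eW (closedPoint A)) A) ?_) (specOf_closedPoint _ A))
    rw [Subsingleton.elim (default : Spec (CommRingCat.of (ResidueField A))) (closedPoint (ResidueField A))]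
    exact IsLocalRing.comap_closedPoint (residue A)
  haveI := EtSite.preservesFiniteLimits_pull (pullback.snd h (Hens2.specOf W (eW (closedPoint A)) A))
  refine stalk_acyclic h _ A _ fun q => ?_
  -- the fibre is a geometric fibre of the strict localization downstairs
  let Z := pullback h (Hens2.specOf W (eW (closedPoint A)) A)
  let k := pullback.snd h (Hens2.specOf W (eW (closedPoint A)) A)
  have hu : ∀ s : n.asIdeal.primeCompl, IsUnit (algebraMap N Ω s) := fun s =>
    isUnit_iff_ne_zero.2 fun h0 => s.2 (by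
      rw [(injective_iff_map_eq_zero _).1 hinj _ h0]; exact zero_mem _)
  letI : Algebra O Ω := (IsLocalization.lift (S := O) hu).toAlgebra
  letI : Algebra R' Ω := ((algebraMap O Ω).comp φ).toAlgebra
  let sΩ := Spec.map (CommRingCat.ofHom (algebraMap O Ω))
  have hηn : ηn = Spec.map (CommRingCat.ofHom (algebraMap N O)) := by
    refine (congrArg (· ≫ (Spec (CommRingCat.of N)).fromSpecStalk n)
      (show Spec.map (CommRingCat.ofHom (algebraMap O O)) = 𝟙 (Spec O) from Spec.map_id O)).trans ?_
    exact (Category.id_comp _).trans (Spec.fromSpecStalk_eq' _ _)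
  have hΩ : sΩ ≫ ηn = Spec.map (CommRingCat.ofHom (algebraMap N Ω)) := by
    rw [hηn, ← Spec.map_comp]
    exact congrArg Spec.map (CommRingCat.hom_ext (IsLocalization.lift_comp hu))
  haveI : Mono ηn := by
    haveI : IsIso (Spec.map (CommRingCat.ofHom (algebraMap O O))) := by
      rw [show Spec.map (CommRingCat.ofHom (algebraMap O O)) = 𝟙 (Spec O) from Spec.map_id O]
      infer_instance
    exact inferInstanceAs (Mono (Spec.map (CommRingCat.ofHom (algebraMap O O)) ≫
      (Spec (CommRingCat.of N)).fromSpecStalk n))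
  have hbot : eW ≫ bW = p₂ ≫ ηn := by
    rw [Category.assoc, pullback.condition, ← Category.assoc, show e ≫ pullback.snd bW ηn = p₂ from cO.lift_snd _ _ _]
  let fΩ : Z ⟶ Spec (CommRingCat.of Ω) := pullback.fst h _ ≫ bU
  have cZ₀ : IsPullback k fΩ (p₂ ≫ ηn) (sΩ ≫ ηn) := by
    have := (IsPullback.of_hasPullback h (Hens2.specOf W (eW (closedPoint A)) A)).flip.paste_vert cU
    exact isPullback_congr' (by rw [hη, hbot]) hΩ.symm this
  have cZ : IsPullback k fΩ p₂ sΩ := StalkBC.isPullback_of_comp_mono ηn cZ₀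
  have cR : IsPullback (k ≫ p₁) fΩ (Spec.map (CommRingCat.ofHom (algebraMap R' Rx)))
      (Spec.map (CommRingCat.ofHom (algebraMap R' Ω))) := by
    rw [show CommRingCat.ofHom (algebraMap R' Ω) = CommRingCat.ofHom φ ≫ CommRingCat.ofHom (algebraMap O Ω) from rfl,
      Spec.map_comp, show CommRingCat.ofHom (algebraMap R' Rx) = ψ from rfl, hψ]
    exact cZ.paste_horiz (pbA.flip.flip)
  let bY : Spec (CommRingCat.of Rx) ⟶ Y := ηx ≫ pullback.fst pR ηr ≫ pullback.fst g η
  haveI : WeaklyEtale (pullback.fst pR ηr) := MorphismProperty.pullback_fst _ _ inferInstance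
  haveI : WeaklyEtale (pullback.fst g η) := MorphismProperty.pullback_fst _ _ inferInstance
  haveI := EtSite.preservesFiniteLimits_pull (k ≫ p₁)
  haveI := EtSite.preservesFiniteLimits_pull p₁
  have h1 := bijective_of_strongLA hs R' Rx (ηr ≫ η) bY (by
    rw [show CommRingCat.ofHom (algebraMap R' Rx) = ψ from rfl, hψ]
    simp only [bY, Category.assoc]
    rw [pullback.condition, reassoc_of% (pullback.condition (f := pR) (g := ηr))]) Ω (k ≫ p₁) fΩ cR q
  have h2 := bijective_Hpull_local (algebraMap Rx A) ((EtCoh.pull bY).obj G) q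
  have h3 := bijective_Hpull_right k p₁ rfl ((EtCoh.pull bY).obj G) q h2 h1
  refine bijective_Hpull_congr k ?_ q h3
  have hcomp : p₁ ≫ bY = (Hens2.specOf W (eW (closedPoint A)) A ≫ a) ≫ pullback.fst g η := by
    rw [hη]
    simp only [bY, eW, ← Category.assoc]
    refine congrArg (· ≫ pullback.fst g η) ?_
    rw [← hew, Category.assoc, Category.assoc]
    exact congrArg (e ≫ ·) (pullback.lift_fst _ _ _)
  exact ((EtCore.pullComp p₁ bY).app G).symm ≪≫ (EtCore.pullCongr hcomp).app G ≪≫
    (EtCore.pullComp (Hens2.specOf W (eW (closedPoint A)) A ≫ a) (pullback.fst g η)).app G ≪≫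
    (EtCore.pullComp (Hens2.specOf W (eW (closedPoint A)) A) a).app _

/-- A strictly local source satisfies the hypothesis on normalisations at every point of the base. -/
theorem specHyp_of_strongLA (RS RX : Type u) [CommRing RS] [HenselianLocalRing RS] [IsSepClosed (ResidueField RS)]
    [CommRing RX] [HenselianLocalRing RX] [IsSepClosed (ResidueField RX)] [Algebra RS RX]
    [IsLocalHom (algebraMap RS RX)] (G : EtCoh.Ab (Spec (CommRingCat.of RX)))
    (hs : StrongLA (Spec.map (CommRingCat.ofHom (algebraMap RS RX))) G)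
    (s : Spec (CommRingCat.of RS)) (R : Type u) [CommRing R] [IsLocalRing R]
    [Algebra ((Spec (CommRingCat.of RS)).presheaf.stalk s) R]
    [IsLocalHom (algebraMap ((Spec (CommRingCat.of RS)).presheaf.stalk s) R)]
    [Hensel.IsStrictHenselization ((Spec (CommRingCat.of RS)).presheaf.stalk s) R] :
    SpecHyp (Spec.map (CommRingCat.ofHom (algebraMap RS RX))) G s R := by
  intro N _ _ _ _ _ hroots K _ r hr W V a bW cW j bV cV _ q
  let η := Hens2.specOf (Spec (CommRingCat.of RS)) s R
  let g := Spec.map (CommRingCat.ofHom (algebraMap RS RX))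
  haveI : WeaklyEtale η := Acyclic0.weaklyEtale_fromStrict s R
  let Ω := FractionRing N
  haveI : IsAlgClosed Ω := IsAlgClosed.of_exists_root _ fun p hp hirr =>
    L20.IntCover.hasRoots_localization hroots (nonZeroDivisors N) (L := Ω) p hp hirr.natDegree_pos
  haveI : IsAlgClosed K := IsAlgClosed.of_exists_root _ fun p hp hirr => by
    obtain ⟨P, hP⟩ := Polynomial.map_surjective r hr p
    obtain ⟨P', hP', hdeg, hmon⟩ := Polynomial.lifts_and_natDegree_eq_and_monic (show p ∈ Polynomial.lifts r from ⟨P, hP⟩) hp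
    obtain ⟨x, hx⟩ := hroots P' hmon (hdeg ▸ hirr.natDegree_pos)
    exact ⟨r x, by rw [← hP', Polynomial.eval_map, Polynomial.eval₂_at_apply, hx.eq_zero, map_zero]⟩
  let h := pullback.fst bW (Spec.map (CommRingCat.ofHom (algebraMap N Ω)))
  haveI := EtSite.preservesFiniteLimits_pull h
  have hΩ := bijective_Hpull_generic hs η N hroots a bW cW Ω (IsFractionRing.injective N Ω) h _
    (IsPullback.of_hasPullback _ _) q
  let a' := a ≫ pullback.fst g η
  haveI := EtSite.preservesFiniteLimits_pull a'
  haveI := EtSite.preservesFiniteLimits_pull (h ≫ a')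
  haveI := EtSite.preservesFiniteLimits_pull (j ≫ a')
  let t := Spec.map (CommRingCat.ofHom (algebraMap R N)) ≫ η
  have cW' : IsPullback a' bW g t := cW.paste_horiz (IsPullback.of_hasPullback g η)
  obtain ⟨τ, hτ⟩ := Spec.map_surjective t
  letI : Algebra RS N := τ.hom.toAlgebra
  letI : Algebra RS Ω := ((algebraMap N Ω).comp τ.hom).toAlgebra
  letI : Algebra RS K := (r.comp τ.hom).toAlgebra
  have hgeom : ∀ (L : Type u) [Field L] [IsSepClosed L] [Algebra RS L] (l : N →+* L) (hl : algebraMap RS L = l.comp τ.hom)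
      (U : Scheme.{u}) (u : U ⟶ W) (bU : U ⟶ Spec (CommRingCat.of L)),
      IsPullback u bU bW (Spec.map (CommRingCat.ofHom l)) → ∀ [PreservesFiniteLimits (EtCoh.pull (u ≫ a'))],
      Function.Bijective (EtCore.Hpull (u ≫ a') G q) := by
    intro L _ _ _ l hl U u bU cu _
    have c : IsPullback (u ≫ a') bU g (Spec.map (CommRingCat.ofHom (algebraMap RS L))) := by
      rw [hl, CommRingCat.ofHom_comp, Spec.map_comp]
      refine cu.paste_horiz ?_
      exact hτ ▸ cW'
    haveI : WeaklyEtale (𝟙 (Spec (CommRingCat.of RS))) := inferInstance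
    haveI : WeaklyEtale (𝟙 (Spec (CommRingCat.of RX))) := inferInstance
    haveI := EtSite.preservesFiniteLimits_pull (𝟙 (Spec (CommRingCat.of RX)))
    have h0 := bijective_of_strongLA hs RS RX (𝟙 _) (𝟙 _) (by rw [Category.id_comp, Category.comp_id]) L (u ≫ a') bU c q
    exact bijective_Hpull_congr _ (@asIso _ _ _ _ _ (isIso_transpose_pushUnit₀ G)) q h0
  have hk : Function.Bijective (EtCore.Hpull (h ≫ a') G q) :=
    hgeom Ω (algebraMap N Ω) rfl _ h _ (IsPullback.of_hasPullback _ _)
  let F' := (EtCoh.pull (pullback.fst g η)).obj G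
  have e := (EtCore.pullComp a (pullback.fst g η)).app G
  have ha : Function.Bijective (EtCore.Hpull a' G q) :=
    bijective_Hpull_left h a' rfl G q (bijective_Hpull_congr h e.symm q hΩ) hk
  exact bijective_Hpull_congr j e q
    (bijective_Hpull_right j a' rfl G q ha (hgeom K r rfl V j bV cV))

end Groth.L27.FinBC
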