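import Groth.Agent.L27.FinBC.AcyclicFibres
import Groth.Agent.S3510
import Groth.Agent.L27.DerBC.Killed
import Groth.Agent.L27.AffineEfface.Core
import Groth.Agent.L05.Henselization.StrictUniq
import Groth.Agent.L27.EtSite.BaseChangeIso
import Groth.Agent.L05.CurveNorm.Scheme
import Groth.Agent.L28.AcyComp.Iso

/-! # Geometric fibres of `n`-acyclic morphisms -/

universe u

open CategoryTheory CategoryTheory.Limits AlgebraicGeometry Opposite IsLocalRing Abelian

set_option backward.isDefEq.respectTransparency.types false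
set_option linter.style.haveILetI false
set_option linter.unusedSectionVars false

noncomputable section

namespace Groth.L27.FinBC

open Groth.L27.LimCoh Groth.L27.LimBC

/-- Constant coefficients are insensitive to universal homeomorphisms. -/
theorem nonempty_constEquiv {U P : Scheme.{u}} (j : U ⟶ P) [IsIntegralHom j] [UniversallyInjective j]
    [Surjective j] (ℓ q : ℕ) :
    Nonempty (EtCoh.H P (EtCoh.const P (ZMod ℓ)) q ≃+ EtCoh.H U (EtCoh.const U (ZMod ℓ)) q) := by
  haveI := EtSite.preservesFiniteLimits_pull j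
  exact ⟨(AddEquiv.ofBijective _ (bijective_Hpull_univHomeo j _ q)).trans
    ((EtCoh.HF U q).mapIso (EtCore.pullConst j (ZMod ℓ))).addCommGroupIsoToAddEquiv⟩

/-- The stalk at `y` of the higher direct image of the constant sheaf on the closure of `y` is the cohomology of
the geometric fibre. -/
theorem nonempty_stalk_fibre {W U : Scheme.{u}} (h : U ⟶ W) [QuasiCompact h] [QuasiSeparated h] (y : W) (R : Type u)
    [CommRing R] [IsLocalRing R] [Algebra (W.presheaf.stalk y) R] [IsLocalHom (algebraMap (W.presheaf.stalk y) R)]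
    [Hensel.IsStrictHenselization (W.presheaf.stalk y) R] [IsSepClosed (ResidueField R)]
    {Z : Scheme.{u}} (i : Z ⟶ W) [IsClosedImmersion i] (hi : Set.range i = closure {y}) (ℓ q : ℕ) :
    Nonempty ((EtCoh.stalk (Hens2.geomPt W y R)).obj ((EtCoh.Rpush h q).obj ((EtCoh.pull h).obj
        ((EtCoh.push i).obj (EtCoh.const Z (ZMod ℓ))))) ≃+
      EtCoh.H (pullback h (Hens2.geomPt W y R)) (EtCoh.const _ (ZMod ℓ)) q) := by
  let η := Hens2.specOf W y R
  let t := Hens2.geomPt W y R
  let C := EtCoh.const Z (ZMod ℓ)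
  obtain ⟨E⟩ := StalkRpush.nonempty_natIso h y R q
  let A : pullback h η ⟶ W := pullback.fst h η ≫ h
  let pZ := pullback.fst i A
  let pA := pullback.snd i A
  haveI : IsClosedImmersion pA := MorphismProperty.pullback_snd (P := @IsClosedImmersion) _ _ inferInstance
  haveI := EtSite.BC.isIso_baseChange0 (IsPullback.of_hasPullback i A) C
  haveI := EtSite.preservesFiniteLimits_pull pA
  let sheafIso : (EtCoh.pull (pullback.fst h η)).obj ((EtCoh.pull h).obj ((EtCoh.push i).obj C)) ≅
      (EtCoh.push pA).obj (EtCoh.const _ (ZMod ℓ)) :=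
    ((EtCore.pullComp (pullback.fst h η) h).symm.app _) ≪≫
      asIso (EtCoh.baseChange0 i A pA pZ (IsPullback.of_hasPullback i A).w C) ≪≫
      (EtCoh.push pA).mapIso (EtCore.pullConst pZ (ZMod ℓ))
  have hpush := EtSite.bijective_HofPush pA (EtCoh.const _ (ZMod ℓ))
    (fun p hp => EtSite.isZero_Rpush_of_propB pA (EtSite.propB_of_isIntegralHom pA) _ p hp) q
  -- the geometric fibre
  have hty : ∀ w, t w = y := fun w => by
    refine (Scheme.Hom.comp_apply _ _ _).trans (Eq.trans (congrArg η ?_) (specOf_closedPoint y R))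
    rw [Subsingleton.elim w (closedPoint (ResidueField R))]
    exact IsLocalRing.comap_closedPoint (residue R)
  haveI : IsIso (pullback.snd i t) := by
    haveI : IsClosedImmersion (pullback.snd i t) :=
      MorphismProperty.pullback_snd (P := @IsClosedImmersion) _ _ inferInstance
    haveI : Surjective (pullback.snd i t) := ⟨fun w => by
      obtain ⟨z, hz⟩ : t w ∈ Set.range i := by rw [hi, hty]; exact subset_closure rfl
      obtain ⟨p, -, hp⟩ := Scheme.Pullback.exists_preimage_pullback z w hz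
      exact ⟨p, hp⟩⟩
    exact isIso_of_isClosedImmersion_of_surjective _
  let k : Spec (CommRingCat.of (ResidueField R)) ⟶ Z := inv (pullback.snd i t) ≫ pullback.fst i t
  have hk : k ≫ i = t := by simp [k, pullback.condition]
  let ι := Spec.map (CommRingCat.ofHom (residue R))
  have hιη : ι ≫ η = t := rfl
  let b : pullback h t ⟶ pullback h η := pullback.lift (pullback.fst h t) (pullback.snd h t ≫ ι)
    (by rw [Category.assoc, hιη]; exact pullback.condition)
  have cb : IsPullback b (pullback.snd h t) (pullback.snd h η) ι :=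
    IsPullback.of_right (by rw [pullback.lift_fst, hιη]; exact IsPullback.of_hasPullback h t)
      (pullback.lift_snd _ _ _) (IsPullback.of_hasPullback h η)
  haveI : IsClosedImmersion ι := IsClosedImmersion.spec_of_surjective _ residue_surjective
  haveI : IsClosedImmersion b := MorphismProperty.of_isPullback (P := @IsClosedImmersion) cb.flip inferInstance
  let j : pullback h t ⟶ pullback i A := pullback.lift (pullback.snd h t ≫ k) b (by
    rw [Category.assoc, hk, ← pullback.condition]
    show _ = b ≫ pullback.fst h η ≫ h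
    rw [← Category.assoc, pullback.lift_fst])
  have hj : j ≫ pA = b := pullback.lift_snd _ _ _
  haveI : IsClosedImmersion j := by
    haveI : IsClosedImmersion (j ≫ pA) := hj.symm ▸ inferInstance
    exact IsClosedImmersion.of_comp j pA
  haveI : Surjective j := ⟨fun p => by
    let w := pullback.snd h η (pA p)
    have hw : η w = i (pZ p) := by
      have e : pA ≫ pullback.snd h η ≫ η = pZ ≫ i := by
        rw [show pZ ≫ i = pA ≫ A from pullback.condition]
        exact congrArg (pA ≫ ·) pullback.condition.symm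
      exact congr($e p)
    have h1 : y ⤳ η w := by
      rw [specializes_iff_mem_closure, ← hi, hw]
      exact ⟨_, rfl⟩
    have h2 : η w ⤳ y := by
      have : (W.fromSpecStalk y) (PrimeSpectrum.comap (algebraMap (W.presheaf.stalk y) R) w) ∈
          Set.range (W.fromSpecStalk y) := ⟨_, rfl⟩
      rw [Scheme.range_fromSpecStalk] at this
      exact this
    have h3 : PrimeSpectrum.comap (algebraMap (W.presheaf.stalk y) R) w = closedPoint (W.presheaf.stalk y) := by
      refine (W.fromSpecStalk y).injective ?_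
      rw [Scheme.fromSpecStalk_closedPoint]
      exact (h2.antisymm h1).eq
    have h4 : w = closedPoint R := by
      refine PrimeSpectrum.ext (IsLocalRing.maximalIdeal.isMaximal R |>.eq_of_le w.isPrime.ne_top ?_).symm
      rw [← L05.Henselization.map_maximalIdeal_of_isStrictHenselization (W.presheaf.stalk y) R,
        Ideal.map_le_iff_le_comap]
      exact (congrArg PrimeSpectrum.asIdeal h3).ge
    obtain ⟨u, hu, -⟩ := Scheme.exists_preimage_of_isPullback cb (pA p) (closedPoint (ResidueField R))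
      (h4.trans (IsLocalRing.comap_closedPoint (residue R)).symm)
    refine ⟨u, pA.injective ?_⟩
    rw [← Scheme.Hom.comp_apply, hj, hu]⟩
  obtain ⟨e⟩ := nonempty_constEquiv j ℓ q
  exact ⟨(((E.app _) ≪≫ (EtCoh.HF (pullback h η) q).mapIso sheafIso).addCommGroupIsoToAddEquiv.trans
    (AddEquiv.ofBijective _ hpush)).trans e⟩

/-- A scheme with as few global constants as possible is nonempty and connected. -/
theorem connectedSpace_of_H0 (X : Scheme.{u}) {ℓ : ℕ} [Fact ℓ.Prime]
    (h : Nonempty (EtCoh.H X (EtCoh.const X (ZMod ℓ)) 0 ≃+ ZMod ℓ)) : Nonempty X ∧ ConnectedSpace X := by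
  obtain ⟨e⟩ := h
  haveI hne : Nonempty X := by
    by_contra hc
    rw [not_nonempty_iff] at hc
    haveI := subsingleton_H_of_isEmpty (EtCoh.const X (ZMod ℓ)) 0
    exact not_subsingleton (ZMod ℓ) e.symm.toEquiv.subsingleton
  refine ⟨hne, @ConnectedSpace.mk _ _ (preconnectedSpace_iff_clopen.2 fun s hs => ?_) hne⟩
  classical
  let f : LocallyConstant (EtCoh.top X).left (ZMod ℓ) :=
    ⟨fun x => if x ∈ s then 1 else 0,
      (IsLocallyConstant.iff_exists_open _).2 fun x => by
        by_cases hx : x ∈ s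
        · exact ⟨s, hs.isOpen, hx, fun z hz => (if_pos hz).trans (if_pos hx).symm⟩
        · exact ⟨sᶜ, hs.isClosed.isOpen_compl, hx, fun z hz => (if_neg hz).trans (if_neg hx).symm⟩⟩
  obtain ⟨σ, hσ⟩ := L28.ConstSect.exists_val_eq (V := EtCoh.top X) f
  let a : EtCoh.const X ℤ ⟶ EtCoh.const X (ZMod ℓ) :=
    ((EtCore.constAdj X).homEquiv _ _).symm (AddCommGrpCat.ofHom ((zmultiplesHom _ σ).comp
      (AddEquiv.ulift : ULift.{u + 1} ℤ ≃+ ℤ).toAddMonoidHom))
  have ha : evalOne a = σ := by
    unfold evalOne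
    rw [Equiv.apply_symm_apply]
    exact one_zsmul σ
  obtain ⟨m, hm⟩ := (bijective_constClass (n := ℓ) X ⟨e⟩).2 (Ext.mk₀ a)
  have hc : σ = L28.ConstSect.c (ZMod ℓ) (EtCoh.top X) m := by
    rw [← ha, ← evalOne_constClass, (Ext.homEquiv₀.symm.injective hm :)]
  have hval : ∀ x : X, (if x ∈ s then (1 : ZMod ℓ) else 0) = m := fun x =>
    (hσ x).symm.trans (hc ▸ L28.ConstSect.val_c (V := EtCoh.top X) m x)
  by_contra hne'
  rw [not_or] at hne'
  obtain ⟨x₁, hx₁⟩ := Set.nonempty_iff_ne_empty.2 hne'.1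
  obtain ⟨x₂, hx₂⟩ := (Set.ne_univ_iff_exists_notMem s).1 hne'.2
  have := (hval x₁).trans (hval x₂).symm
  simp [hx₁, hx₂] at this

/-- Geometric fibres of an `n`-acyclic morphism are `n`-acyclic. -/
theorem geomFibres_of_isAcyclicN {X Y : Scheme.{u}} (g : X ⟶ Y) [QuasiCompact g] [QuasiSeparated g]
    (L : Set ℕ) (hL : ∃ ℓ ∈ L, ℓ.Prime) (n : ℕ) (hg : EtAcyc.IsAcyclicN g L n) :
    EtAcyc.GeomFibresAcyclicN L n g := by
  intro y Ω _ _ algΩ _
  obtain ⟨R, _, _, _, _, hR⟩ := L05.Henselization.exists_isStrictHenselization (Y.presheaf.stalk y)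
  haveI := hR
  obtain ⟨_, _⟩ := StalkBC.henselian_strict y R
  let κ := ResidueField (Y.presheaf.stalk y)
  let k := ResidueField R
  letI : Algebra κ Ω := algΩ
  haveI : Algebra.IsAlgebraic κ Ω := ‹_›
  haveI : Algebra.IsSeparable κ k := hR.isSepClosure.separable
  let ε : k →ₐ[κ] Ω := IsSepClosed.lift
  letI : Algebra k Ω := ε.toRingHom.toAlgebra
  haveI : IsScalarTower κ k Ω := IsScalarTower.of_algebraMap_eq fun x => (ε.commutes x).symm
  haveI : Algebra.IsAlgebraic k Ω := Algebra.IsAlgebraic.tower_top (K := κ) k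
  let σ : Spec (CommRingCat.of Ω) ⟶ Spec (CommRingCat.of k) := Groth.L05.CurveNorm.ext k Ω
  haveI : UniversallyInjective σ := Groth.L05.CurveNorm.universallyInjective_ext k Ω
  haveI : IsIntegralHom σ := IsIntegralHom.SpecMap_iff.mpr (algebraMap_isIntegral_iff.mpr inferInstance)
  haveI : Surjective σ := ⟨fun x => ⟨closedPoint Ω, Subsingleton.elim _ _⟩⟩
  let tR := Hens2.geomPt Y y R
  let tΩ := EtAcyc.geomPt Y y Ω
  have hσ : σ ≫ tR = tΩ := by
    change Spec.map _ ≫ Spec.map _ ≫ Spec.map _ ≫ Y.fromSpecStalk y =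
      Spec.map _ ≫ Spec.map _ ≫ Y.fromSpecStalk y
    rw [← Spec.map_comp_assoc, ← Spec.map_comp_assoc, ← Spec.map_comp_assoc]
    congr 2
    refine CommRingCat.hom_ext (RingHom.ext fun a => ?_)
    exact ε.commutes (residue _ a)
  let V := EtCoh.top Y
  let h : pullback V.hom g ⟶ Y := EtAcyc.prj g V
  haveI : QuasiCompact h := MorphismProperty.pullback_fst (P := @QuasiCompact) _ _ inferInstance
  haveI : QuasiSeparated h := MorphismProperty.pullback_fst (P := @QuasiSeparated) _ _ inferInstance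
  haveI : IsIso V.hom := inferInstanceAs (IsIso (𝟙 Y))
  let sndV := pullback.snd V.hom g
  have hsnd : inv sndV ≫ h = g := by
    rw [IsIso.inv_comp_eq]
    show pullback.fst V.hom g = pullback.snd V.hom g ≫ g
    rw [← pullback.condition]
    exact (Category.comp_id _).symm
  let σ' : pullback g tΩ ⟶ pullback g tR := pullback.map g tΩ g tR (𝟙 X) σ (𝟙 Y) (by simp) (by simp [hσ])
  have cσ : IsPullback σ' (pullback.snd g tΩ) (pullback.snd g tR) σ := by
    refine IsPullback.of_right ?_ (pullback.lift_snd _ _ _) (IsPullback.of_hasPullback g tR)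
    rw [pullback.lift_fst, Category.comp_id, hσ]
    exact IsPullback.of_hasPullback g tΩ
  haveI : UniversallyInjective σ' := MorphismProperty.of_isPullback (P := @UniversallyInjective) cσ.flip inferInstance
  haveI : IsIntegralHom σ' := MorphismProperty.of_isPullback (P := @IsIntegralHom) cσ.flip inferInstance
  haveI : Surjective σ' := MorphismProperty.of_isPullback (P := @Surjective) cσ.flip inferInstance
  let e' : pullback g tR ⟶ pullback h tR :=
    pullback.map g tR h tR (inv sndV) (𝟙 _) (𝟙 Y) (by simp [hsnd]) (by simp)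
  haveI : IsIso e' := inferInstance
  let π := σ' ≫ e'
  haveI : IsIntegralHom π := MorphismProperty.comp_mem @IsIntegralHom σ' e' inferInstance inferInstance
  haveI : UniversallyInjective π := MorphismProperty.comp_mem @UniversallyInjective σ' e' inferInstance inferInstance
  haveI : Surjective π := MorphismProperty.comp_mem @Surjective σ' e' inferInstance inferInstance
  let 𝓘 := Scheme.IdealSheafData.vanishingIdeal (X := Y) ⟨closure {y}, isClosed_closure⟩
  let i := 𝓘.subschemeι
  have hi : Set.range i = closure {y} := by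
    rw [Scheme.IdealSheafData.range_subschemeι, Scheme.IdealSheafData.coe_support_vanishingIdeal]
    rfl
  have key : ∀ ℓ : ℕ, ℓ.Prime → ℓ ∈ L →
      (∀ q : ℕ, 1 ≤ q → q ≤ n → Subsingleton (EtCoh.H (pullback g tΩ) (EtCoh.const _ (ZMod ℓ)) q)) ∧
      Nonempty (EtCoh.H (pullback g tΩ) (EtCoh.const _ (ZMod ℓ)) 0 ≃+ ZMod ℓ) := by
    intro ℓ hℓ hℓL
    haveI : NeZero ℓ := ⟨hℓ.ne_zero⟩
    let F : EtCoh.Ab V.left := (EtCoh.push i).obj (EtCoh.const _ (ZMod ℓ))
    have hF : EtAcyc.IsLTorsion L F := by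
      refine DerBC.Killed.isLTorsion ⟨ℓ, ⟨hℓ.pos, fun p hp hd => ?_⟩, ?_⟩
      · rwa [(Nat.prime_dvd_prime_iff_eq hp hℓ).1 hd]
      · haveI : (EtCoh.push i).Additive := (EtCoh.pullPushAdj i).right_adjoint_additive
        have h0 := AffineEfface.nsmul_id_const 𝓘.subscheme (ZMod ℓ)
        rw [Nat.card_zmod] at h0
        show ℓ • 𝟙 ((EtCoh.push i).obj _) = 0
        rw [← (EtCoh.push i).map_id, ← Functor.map_nsmul, h0, Functor.map_zero]
    obtain ⟨hu, hz⟩ := (Groth.Agent.S3510.result g L n).1 hg V F hF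
    refine ⟨fun q h1 h2 => ?_, ?_⟩
    · obtain ⟨e⟩ := nonempty_stalk_fibre h y R i hi ℓ q
      obtain ⟨e₂⟩ := nonempty_constEquiv π ℓ q
      haveI : Subsingleton ((EtCoh.stalk tR).obj ((EtCoh.Rpush h q).obj ((EtCoh.pull h).obj F))) :=
        AddCommGrpCat.subsingleton_of_isZero ((EtCoh.stalk tR).map_isZero (hz q h1 h2))
      exact (e.trans e₂).symm.toEquiv.subsingleton
    · obtain ⟨e⟩ := nonempty_stalk_fibre h y R i hi ℓ 0
      obtain ⟨e₁⟩ := nonempty_stalk_fibre (𝟙 Y) y R i hi ℓ 0
      obtain ⟨e₂⟩ := nonempty_constEquiv π ℓ 0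
      obtain ⟨e₃⟩ := nonempty_constEquiv (pullback.snd (𝟙 Y) tR) ℓ 0
      haveI : IsSepClosed (ResidueField k) := AffineEfface.isSepClosed_residueField k
      obtain ⟨e₄⟩ := (isPt_strict (n := ℓ) k).2
      haveI : IsIso ((EtCoh.pullPushAdj h).unit.app F) := hu
      haveI := L28.AcyComp.isIso_unit (𝟙 Y) F
      haveI : PreservesFiniteLimits (EtCoh.push h) := by
        haveI : PreservesLimitsOfSize.{0, 0} (EtCoh.push h) := (EtCoh.pullPushAdj h).rightAdjoint_preservesLimits
        exact PreservesLimitsOfSize.preservesFiniteLimits _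
      haveI : PreservesFiniteLimits (EtCoh.push (𝟙 Y)) := by
        haveI : PreservesLimitsOfSize.{0, 0} (EtCoh.push (𝟙 Y)) :=
          (EtCoh.pullPushAdj (𝟙 Y)).rightAdjoint_preservesLimits
        exact PreservesLimitsOfSize.preservesFiniteLimits _
      let c : (EtCoh.Rpush (𝟙 Y) 0).obj ((EtCoh.pull (𝟙 Y)).obj F) ≅ (EtCoh.Rpush h 0).obj ((EtCoh.pull h).obj F) :=
        (EtCoh.push (𝟙 Y)).rightDerivedZeroIsoSelf.app _ ≪≫
          (asIso ((EtCoh.pullPushAdj (𝟙 Y)).unit.app F)).symm ≪≫
          asIso ((EtCoh.pullPushAdj h).unit.app F) ≪≫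
          ((EtCoh.push h).rightDerivedZeroIsoSelf.app _).symm
      exact ⟨(e₂.symm.trans (e.symm.trans ((((EtCoh.stalk tR).mapIso c).symm.addCommGroupIsoToAddEquiv).trans
        (e₁.trans e₃.symm)))).trans e₄⟩
  obtain ⟨ℓ, hℓL, hℓ⟩ := hL
  haveI : Fact ℓ.Prime := ⟨hℓ⟩
  obtain ⟨h1, h2⟩ := connectedSpace_of_H0 (pullback g tΩ) (key ℓ hℓ hℓL).2
  exact ⟨h1, h2, fun p hp hpL => (key p hp hpL).1⟩

end Groth.L27.FinBC
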