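import Groth.Agent.L27.FinBC.ConstLA
import Groth.Agent.L27.StalkBC.FibreCritPoint
import Groth.Agent.L27.StalkBC.SepAcyclic
import Groth.Agent.L27.CompTransfer.Transfer

/-! # Direct images from geometric points along locally acyclic morphisms -/

universe u

open CategoryTheory CategoryTheory.Limits AlgebraicGeometry Opposite IsLocalRing

set_option backward.isDefEq.respectTransparency.types false
set_option linter.style.haveILetI false
set_option linter.unusedSectionVars false

noncomputable section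

namespace Groth.L27.FinBC

open Groth.L27.LimCoh Groth.L27.LimBC

theorem isZero_of_isEmpty {X : Scheme.{u}} [IsEmpty X] (F : EtCoh.Ab X) : IsZero F :=
  EtSite.isZero_of_stalks F fun x => isEmptyElim x

theorem subsingleton_H_of_isEmpty {X : Scheme.{u}} [IsEmpty X] (F : EtCoh.Ab X) (q : ℕ) :
    Subsingleton (EtCoh.H X F q) :=
  AddCommGrpCat.subsingleton_of_isZero ((EtCoh.HF X q).map_isZero (isZero_of_isEmpty F))

variable {n : ℕ} [NeZero n] {X S : Scheme.{u}} {f : X ⟶ S} (hla : EtRest.IsLocallyAcyclic f)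
  (hn : IsUnit (n : Γ(S, ⊤)))

include hla hn in
/-- The cohomological base change along a locally acyclic morphism from a geometric point is invertible. -/
theorem isIso_bcQ_sepPoint {Ω : Type u} [Field Ω] [IsSepClosed Ω] (t : Spec (CommRingCat.of Ω) ⟶ S)
    [QuasiCompact t] [QuasiSeparated t]
    {Y : Scheme.{u}} (h : Y ⟶ X) (e : Y ⟶ Spec (CommRingCat.of Ω)) (c : IsPullback e h t f)
    [PreservesFiniteLimits (EtCoh.pull e)] (q : ℕ) :
    IsIso (EtBC.bcQ t f h e c.w q (EtCoh.const (Spec (CommRingCat.of Ω)) (ZMod n))) := by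
  haveI : IsSepClosed (ResidueField Ω) := AffineEfface.isSepClosed_residueField Ω
  refine StalkBC.isIso_of_pb _ fun x RX _ _ _ _ _ => ?_
  obtain ⟨_, _⟩ := StalkBC.henselian_strict x RX
  obtain ⟨RS, _, _, _, _, hRS⟩ := L05.Henselization.exists_isStrictHenselization (S.presheaf.stalk (f.base x))
  haveI := hRS
  obtain ⟨_, _⟩ := StalkBC.henselian_strict (f.base x) RS
  obtain ⟨ψ, _, hψ⟩ := StalkBC.exists_strictMap f x RS RX
  let σS := Hens2.specOf S (f.base x) RS
  let σX := Hens2.specOf X x RX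
  let aS := pullback.fst t σS
  let bS := pullback.snd t σS
  let aX := pullback.fst t (σX ≫ f)
  let bX := pullback.snd t (σX ≫ f)
  have hσ : Spec.map (CommRingCat.ofHom ψ) ≫ σS = σX ≫ f := StalkBC.specOf_comp f x RS RX ψ hψ
  let m : pullback t (σX ≫ f) ⟶ pullback t σS := pullback.lift aX (bX ≫ Spec.map (CommRingCat.ofHom ψ))
    (pullback.condition.trans ((congrArg (bX ≫ ·) hσ.symm).trans (Category.assoc _ _ _).symm))
  have hma : m ≫ aS = aX := pullback.lift_fst _ _ _
  have hmb : m ≫ bS = bX ≫ Spec.map (CommRingCat.ofHom ψ) := pullback.lift_snd _ _ _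
  haveI := EtSite.preservesFiniteLimits_pull m
  let F := EtCoh.const (Spec (CommRingCat.of Ω)) (ZMod n)
  refine (StalkBC.bijective_HpullVia_iff f t h e c F q x RS RX ψ hψ _ _ aS bS
    (IsPullback.of_hasPullback t σS) aX bX (IsPullback.of_hasPullback t (σX ≫ f)) m hma hmb).1 ?_
  rcases isEmpty_or_nonempty ↥(pullback t σS) with hE | hE
  · haveI : IsEmpty ↥(pullback t (σX ≫ f)) := ⟨fun y => hE.elim (m y)⟩
    haveI := subsingleton_H_of_isEmpty ((EtCoh.pull aS).obj F) q
    haveI := subsingleton_H_of_isEmpty ((EtCoh.pull aX).obj F) q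
    exact ⟨fun _ _ _ => Subsingleton.elim _ _, fun y => ⟨0, Subsingleton.elim _ _⟩⟩
  haveI : WeaklyEtale σS := Acyclic0.weaklyEtale_fromStrict (f.base x) RS
  haveI : WeaklyEtale σX := Acyclic0.weaklyEtale_fromStrict x RX
  haveI : WeaklyEtale aS := MorphismProperty.pullback_fst _ _ inferInstance
  let p := Classical.arbitrary ↥(pullback t σS)
  obtain ⟨R, _, _, _, _, hR⟩ := L05.Henselization.exists_isStrictHenselization ((pullback t σS).presheaf.stalk p)
  haveI := hR
  haveI := StalkBC.isIso_specOf_comp Ω aS p R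
  let s := inv (Hens2.specOf (pullback t σS) p R ≫ aS) ≫ Hens2.specOf (pullback t σS) p R
  obtain ⟨κ, hκ⟩ := Spec.map_surjective (s ≫ bS)
  have ht : Spec.map (CommRingCat.ofHom κ.hom) ≫ σS = t := by
    refine (congrArg (· ≫ σS) hκ).trans ?_
    rw [Category.assoc, ← pullback.condition]
    exact (Category.assoc _ _ _).symm.trans
      ((congrArg (· ≫ t) ((Category.assoc _ _ _).trans (IsIso.inv_hom_id _))).trans (Category.id_comp t))
  refine (StalkBC.fibre_criterion f x RS RX ψ hψ Ω κ.hom F q _ _ aS bS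
    (isPullback_congr' ht.symm rfl (IsPullback.of_hasPullback t σS)) aX bX
    (isPullback_congr' ht.symm rfl (IsPullback.of_hasPullback t (σX ≫ f))) m hma hmb).2 ?_
  intro κ' _ Q' aQ bQ cQ _
  letI : Algebra RS RX := ψ.toAlgebra
  haveI : IsLocalHom (algebraMap RS RX) := inferInstanceAs (IsLocalHom ψ)
  letI : Algebra RS Ω := κ'.toAlgebra
  haveI := EtSite.preservesFiniteLimits_pull bQ
  have hs := strongLA_const hla hn f (𝟙 X) (𝟙 S) (by rw [Category.id_comp, Category.comp_id])
  have h1 := bijective_of_strongLA hs RS RX σS σX hσ.symm Ω bQ aQ cQ.flip q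
  refine bijective_Hpull_isPt aQ (isPt_strict Ω) ((isPt_of_bijective bQ fun q => ?_).2 (isPt_strict RX)) q
  exact bijective_Hpull_congr bQ (EtCore.pullConst σX (ZMod n)) q
    (bijective_of_strongLA hs RS RX σS σX hσ.symm Ω bQ aQ cQ.flip q)

include hla hn in
/-- Direct images from geometric points along a locally acyclic morphism. -/
theorem sepPoint_acyclic {Ω : Type u} [Field Ω] [IsSepClosed Ω] (t : Spec (CommRingCat.of Ω) ⟶ S)
    [QuasiCompact t] [QuasiSeparated t]
    {Y : Scheme.{u}} (h : Y ⟶ X) (e : Y ⟶ Spec (CommRingCat.of Ω)) (c : IsPullback e h t f) :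
    IsIso (EtCoh.baseChange0 t f h e c.w (EtCoh.const (Spec (CommRingCat.of Ω)) (ZMod n))) ∧
      ∀ q : ℕ, 0 < q → IsZero ((EtCoh.Rpush h q).obj (EtCoh.const Y (ZMod n))) := by
  haveI := EtSite.preservesFiniteLimits_pull e
  refine ⟨?_, fun q hq => ?_⟩
  · haveI := isIso_bcQ_sepPoint hla hn t h e c 0
    haveI := EtSite.preservesFiniteLimits_pull f
    exact CompTransfer.isIso_baseChange0_of_bcQ f t e h c.w _
  · haveI := isIso_bcQ_sepPoint hla hn t h e c q
    refine IsZero.of_iso ?_ ((EtCoh.Rpush h q).mapIso (EtCore.pullConst e (ZMod n))).symm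
    exact IsZero.of_iso ((EtCoh.pull f).map_isZero (StalkBC.isZero_Rpush_sepPoint Ω t _ q hq))
      (asIso (EtBC.bcQ t f h e c.w q (EtCoh.const (Spec (CommRingCat.of Ω)) (ZMod n)))).symm

end Groth.L27.FinBC
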