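import Groth.Agent.L27.FinBC.ConstLA
import Groth.Agent.L27.FinBC.PointLA

/-! # Locally acyclic morphisms with acyclic fibres -/

universe u

open CategoryTheory CategoryTheory.Limits AlgebraicGeometry Opposite IsLocalRing

set_option backward.isDefEq.respectTransparency.types false
set_option linter.style.haveILetI false
set_option linter.unusedSectionVars false

noncomputable section

namespace Groth.L27.FinBC

open Groth.L27.LimCoh Groth.L27.LimBC

variable {n : ℕ} [NeZero n] {X S : Scheme.{u}} (f : X ⟶ S) [QuasiCompact f] [QuasiSeparated f]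
  (hla : EtRest.IsLocallyAcyclic f) (hn : IsUnit (n : Γ(S, ⊤)))
  (hfib : ∀ (Ω : Type u) [Field Ω] [IsSepClosed Ω] (t : Spec (CommRingCat.of Ω) ⟶ S), IsPt n (pullback f t))

include hla hn hfib in
/-- The strictly local base changes have the cohomology of a point. -/
theorem isPt_strict_baseChange (s : S) (R : Type u) [CommRing R] [IsLocalRing R] [Algebra (S.presheaf.stalk s) R]
    [IsLocalHom (algebraMap (S.presheaf.stalk s) R)] [Hensel.IsStrictHenselization (S.presheaf.stalk s) R] :
    IsPt n (pullback f (Hens2.specOf S s R)) := by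
  obtain ⟨_, _⟩ := StalkBC.henselian_strict s R
  let η := Hens2.specOf S s R
  haveI : WeaklyEtale η := Acyclic0.weaklyEtale_fromStrict s R
  have hstrong := strongLA_const hla hn f (𝟙 X) (𝟙 S) (by rw [Category.id_comp, Category.comp_id])
  have hfibre : ∀ (L : Type u) [Field L] [IsSepClosed L] {U : Scheme.{u}} (u : U ⟶ X)
      (bU : U ⟶ Spec (CommRingCat.of L)) (g : Spec (CommRingCat.of L) ⟶ S), IsPullback u bU f g → IsPt n U :=
    fun L _ _ U u bU g c => (isPt_of_iso c.isoPullback.hom).2 (hfib L g)
  let pR := pullback.snd f η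
  let aR := pullback.fst f η
  -- restriction to closed fibres over absolutely integrally closed domains
  have hN : SpecHyp f (EtCoh.const X (ZMod n)) s R := by
    intro N _ _ _ _ _ hroots K _ r hr W V a bW cW j bV cV _ q
    haveI : IsAlgClosed K := IsAlgClosed.of_exists_root _ fun p hp hirr => by
      obtain ⟨P, hP⟩ := Polynomial.map_surjective r hr p
      obtain ⟨P', hP', hdeg, hmon⟩ := Polynomial.lifts_and_natDegree_eq_and_monic
        (show p ∈ Polynomial.lifts r from ⟨P, hP⟩) hp
      obtain ⟨x, hx⟩ := hroots P' hmon (hdeg ▸ hirr.natDegree_pos)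
      exact ⟨r x, by rw [← hP', Polynomial.eval_map, Polynomial.eval₂_at_apply, hx.eq_zero, map_zero]⟩
    let Ω := FractionRing N
    haveI : IsAlgClosed Ω := IsAlgClosed.of_exists_root _ fun p hp hirr =>
      L20.IntCover.hasRoots_localization hroots (nonZeroDivisors N) (L := Ω) p hp hirr.natDegree_pos
    let tΩ := Spec.map (CommRingCat.ofHom (algebraMap N Ω))
    let h := pullback.fst bW tΩ
    haveI := EtSite.preservesFiniteLimits_pull h
    have cR := cW.paste_horiz (IsPullback.of_hasPullback f η)
    let e := ((EtCore.pullComp a aR).symm.app (EtCoh.const X (ZMod n))) ≪≫ EtCore.pullConst (a ≫ aR) (ZMod n)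
    have hW : IsPt n W := by
      refine (isPt_of_bijective h fun q => ?_).1 (hfibre Ω _ _ _ ((IsPullback.of_hasPullback bW tΩ).paste_horiz cR))
      exact bijective_Hpull_congr h e q
        (bijective_Hpull_generic hstrong η N hroots a bW cW Ω (IsFractionRing.injective N Ω) h _
          (IsPullback.of_hasPullback _ _) q)
    exact bijective_Hpull_congr j e.symm q
      (bijective_Hpull_isPt j hW (hfibre K _ _ _ (cV.paste_horiz cR)) q)
  let i₀ := Spec.map (CommRingCat.ofHom (residue R))
  let i := pullback.fst pR i₀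
  haveI := EtSite.preservesFiniteLimits_pull i
  refine (isPt_of_bijective i fun q => ?_).1 ?_
  · exact bijective_Hpull_congr i (EtCore.pullConst aR (ZMod n)) q
      (bijective_closedFibre pR ((EtCoh.pull aR).obj (EtCoh.const X (ZMod n))) i _
        (IsPullback.of_hasPullback pR i₀) hN q)
  · exact hfibre (ResidueField R) _ _ _
      ((IsPullback.of_hasPullback pR i₀).paste_horiz (IsPullback.of_hasPullback f η))

include hla hn hfib in
/-- A locally acyclic morphism with acyclic geometric fibres is acyclic for constant coefficients. -/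
theorem acyclic_of_fibres :
    IsIso ((EtCoh.pullPushAdj f).unit.app (EtCoh.const S (ZMod n))) ∧
      ∀ q : ℕ, 0 < q → IsZero ((EtCoh.Rpush f q).obj (EtCoh.const X (ZMod n))) := by
  have H : ∀ y : S, ∃ (K : Type u) (_ : Field K) (_ : IsSepClosed K) (ξ : Spec (CommRingCat.of K) ⟶ S),
      ξ.base default = y ∧
        Function.Bijective ((EtCoh.stalk ξ).map ((EtCoh.pullPushAdj f).unit.app (EtCoh.const S (ZMod n)))) ∧
        ∀ q : ℕ, 0 < q → IsZero ((EtCoh.stalk ξ).obj
          ((EtCoh.Rpush f q).obj ((EtCoh.pull f).obj (EtCoh.const S (ZMod n))))) := by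
    intro y
    obtain ⟨R, _, _, _, _, hR⟩ := L05.Henselization.exists_isStrictHenselization (S.presheaf.stalk y)
    haveI := hR
    obtain ⟨_, _⟩ := StalkBC.henselian_strict y R
    refine ⟨ResidueField R, inferInstance, inferInstance, Hens2.geomPt S y R, ?_, ?_⟩
    · refine (Scheme.Hom.comp_apply _ _ _).trans (Eq.trans (congrArg (Hens2.specOf S y R) ?_) (specOf_closedPoint y R))
      rw [Subsingleton.elim (default : Spec (CommRingCat.of (ResidueField R))) (closedPoint (ResidueField R))]
      exact IsLocalRing.comap_closedPoint (residue R)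
    haveI := EtSite.preservesFiniteLimits_pull (pullback.snd f (Hens2.specOf S y R))
    refine stalk_acyclic f y R _ fun q => ?_
    exact bijective_Hpull_congr _ (EtCore.pullConst (Hens2.specOf S y R) (ZMod n)).symm q
      (bijective_Hpull_isPt _ (isPt_strict R) (isPt_strict_baseChange f hla hn hfib y R) q)
  let φ := (EtCoh.pullPushAdj f).unit.app (EtCoh.const S (ZMod n))
  haveI : Mono φ := by
    have : Sheaf.IsLocallyInjective φ := EtSite.isLocallyInjective_of_some_stalks _ fun y => by
      obtain ⟨K, _, _, ξ, hξ, hb, -⟩ := H y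
      exact ⟨K, _, inferInstance, ξ, hξ, hb.1⟩
    exact Sheaf.mono_of_isLocallyInjective _
  haveI : Epi φ :=
    (Sheaf.isLocallySurjective_iff_epi' (φ := φ)).1 (EtSite.isLocallySurjective_of_some_stalks _ fun y => by
      obtain ⟨K, _, _, ξ, hξ, hb, -⟩ := H y
      exact ⟨K, _, inferInstance, ξ, hξ, hb.2⟩)
  refine ⟨isIso_of_mono_of_epi φ, fun p hp => ?_⟩
  refine IsZero.of_iso (EtSite.isZero_of_stalks _ fun y => ?_) ((EtCoh.Rpush f p).mapIso (EtCore.pullConst f (ZMod n))).symm
  obtain ⟨K, _, _, ξ, hξ, -, hz⟩ := H y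
  exact ⟨K, _, inferInstance, ξ, hξ, hz p hp⟩

end Groth.L27.FinBC
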