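import Groth.Agent.L27.FinBC.LA
import Groth.Agent.L28.ConstSect.Basic
import Groth.Agent.L27.StalkBC.SepAcyclic

/-! # Locally acyclic morphisms and constant coefficients -/

universe u

open CategoryTheory CategoryTheory.Limits AlgebraicGeometry Opposite IsLocalRing CategoryTheory.Abelian
open scoped TensorProduct

set_option backward.isDefEq.respectTransparency.types false
set_option linter.style.haveILetI false
set_option linter.unusedSectionVars false

noncomputable section

namespace Groth.L27.FinBC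

open Groth.L27.LimCoh Groth.L27.LimBC

variable (M : Type) [AddCommGroup M]

/-- The map of constant groups sending `1` to `m`. -/
def groupHom (m : M) : AddCommGrpCat.of (ULift.{u + 1} ℤ) ⟶ AddCommGrpCat.of (ULift.{u + 1} M) :=
  AddCommGrpCat.ofHom ((zmultiplesHom (ULift.{u + 1} M) (ULift.up m)).comp
    (AddEquiv.ulift : ULift.{u + 1} ℤ ≃+ ℤ).toAddMonoidHom)

/-- The class of a constant. -/
def constClass (X : Scheme.{u}) (m : M) : EtCoh.H X (EtCoh.const X M) 0 :=
  Ext.mk₀ ((constantSheaf X.smallEtaleTopology AddCommGrpCat.{u + 1}).map (groupHom M m))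

/-- A morphism out of the constant sheaf as a global section. -/
def evalOne {X : Scheme.{u}} {F : EtCoh.Ab X} (a : EtCoh.const X ℤ ⟶ F) : F.obj.obj (op (EtCoh.top X)) :=
  (EtCore.constAdj X).homEquiv _ _ a (ULift.up 1)

theorem evalOne_injective {X : Scheme.{u}} {F : EtCoh.Ab X} :
    Function.Injective (evalOne : (EtCoh.const X ℤ ⟶ F) → _) := by
  intro a b h
  refine ((EtCore.constAdj X).homEquiv _ _).injective (AddCommGrpCat.hom_ext ?_)
  have e : (((EtCore.constAdj X).homEquiv _ _ a).hom.comp
        (AddEquiv.ulift : ULift.{u + 1} ℤ ≃+ ℤ).symm.toAddMonoidHom) =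
      ((EtCore.constAdj X).homEquiv _ _ b).hom.comp
        (AddEquiv.ulift : ULift.{u + 1} ℤ ≃+ ℤ).symm.toAddMonoidHom := AddMonoidHom.ext_int h
  refine AddMonoidHom.ext fun z => ?_
  exact DFunLike.congr_fun e z.down

theorem evalOne_constClass {X : Scheme.{u}} (m : M) :
    evalOne ((constantSheaf X.smallEtaleTopology AddCommGrpCat.{u + 1}).map (groupHom M m)) =
      L28.ConstSect.c M (EtCoh.top X) m := by
  have h := (EtCore.constAdj X).homEquiv_unit _ _
    ((constantSheaf X.smallEtaleTopology AddCommGrpCat.{u + 1}).map (groupHom M m))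
  rw [evalOne, h]
  refine (congr($(((EtCore.constAdj X).unit.naturality (groupHom M m)).symm) (ULift.up 1))).trans ?_
  show (((EtCore.constAdj X).unit.app _) : _ → _) (groupHom M m (ULift.up 1)) = _
  rw [show groupHom M m (ULift.up 1) = ULift.up m from one_zsmul _]
  simp [EtCore.constAdj, constantSheafAdj, constantPresheafAdj, sheafificationAdjunction, L28.ConstSect.c,
    L28.LocConst.cs]
  rfl

theorem injective_constClass (X : Scheme.{u}) [Nonempty X] : Function.Injective (constClass M X) := by
  intro m m' h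
  refine L28.ConstSect.c_inj M (V := EtCoh.top X) (Classical.arbitrary X) ?_
  rw [← evalOne_constClass, ← evalOne_constClass, (Ext.homEquiv₀.symm.injective h :)]

theorem Hpull_constClass {X Y : Scheme.{u}} (f : Y ⟶ X) [PreservesFiniteLimits (EtCoh.pull f)] (m : M) :
    (EtCoh.HF Y 0).map (EtCore.pullConst f M).hom (EtCore.Hpull f (EtCoh.const X M) 0 (constClass M X m)) =
      constClass M Y m := by
  rw [EtSite.HF_map_apply, EtSite.Hpull_def, constClass, constClass, Ext.mapExactFunctor_mk₀,
    Ext.mk₀_comp_mk₀, Ext.mk₀_comp_mk₀]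
  congr 1
  rw [Category.assoc]
  exact (congrArg (_ ≫ ·) ((EtCore.pullConstIso f).hom.naturality (groupHom M m))).trans
    (Iso.inv_hom_id_assoc _ _)

variable (n : ℕ) [NeZero n]

/-- Cohomology of a point in degree zero: every class is a constant. -/
theorem bijective_constClass (X : Scheme.{u}) [Nonempty X]
    (h : Nonempty (EtCoh.H X (EtCoh.const X (ZMod n)) 0 ≃+ ZMod n)) :
    Function.Bijective (constClass (ZMod n) X) := by
  obtain ⟨e⟩ := h
  have hi := e.injective.comp (injective_constClass (ZMod n) X)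
  exact (Function.Bijective.of_comp_iff' e.bijective _).1 ((Finite.injective_iff_bijective).1 hi)

/-- The cohomology of a point with coefficients `ℤ/n`. -/
def IsPt (X : Scheme.{u}) : Prop :=
  (∀ q : ℕ, 0 < q → Subsingleton (EtCoh.H X (EtCoh.const X (ZMod n)) q)) ∧
    Nonempty (EtCoh.H X (EtCoh.const X (ZMod n)) 0 ≃+ ZMod n)

variable {n}

/-- Restriction between schemes with the cohomology of a point is bijective. -/
theorem bijective_Hpull_isPt {X Y : Scheme.{u}} (f : Y ⟶ X) [PreservesFiniteLimits (EtCoh.pull f)]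
    (hX : IsPt n X) (hY : IsPt n Y) (q : ℕ) : Function.Bijective (EtCore.Hpull f (EtCoh.const X (ZMod n)) q) := by
  let e := (EtCoh.HF Y q).map (EtCore.pullConst f (ZMod n)).hom
  have he : Function.Bijective e := ConcreteCategory.bijective_of_isIso _
  refine (Function.Bijective.of_comp_iff' he _).1 ?_
  rcases Nat.eq_zero_or_pos q with rfl | hq
  · obtain ⟨eX⟩ := hX.2
    obtain ⟨eY⟩ := hY.2
    rcases isEmpty_or_nonempty Y with hEY | hNY
    · haveI : IsEmpty (EtCoh.top Y).left := hEY
      haveI := L28.ConstSect.subsingleton_of_isEmpty (X := Y) (M := ZMod n) (V := EtCoh.top Y)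
      haveI : Subsingleton (EtCoh.H Y (EtCoh.const Y (ZMod n)) 0) := (secEq _).toEquiv.subsingleton
      haveI : Subsingleton (ZMod n) := eY.symm.toEquiv.subsingleton
      haveI : Subsingleton (EtCoh.H X (EtCoh.const X (ZMod n)) 0) := eX.toEquiv.subsingleton
      exact ⟨fun _ _ _ => Subsingleton.elim _ _, fun y => ⟨0, Subsingleton.elim (α := EtCoh.H Y _ 0) _ _⟩⟩
    · haveI : Nonempty X := ⟨f (Classical.arbitrary Y)⟩
      refine (Function.Bijective.of_comp_iff _ (bijective_constClass n X ⟨eX⟩)).1 ?_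
      exact Eq.subst (motive := Function.Bijective) (funext fun m => (Hpull_constClass (ZMod n) f m).symm)
        (bijective_constClass n Y ⟨eY⟩)
  · haveI := hX.1 q hq
    haveI := hY.1 q hq
    exact ⟨fun _ _ _ => Subsingleton.elim _ _, fun y => ⟨0, Subsingleton.elim (α := EtCoh.H Y _ q) _ _⟩⟩

theorem isPt_of_bijective {X Y : Scheme.{u}} (f : Y ⟶ X) [PreservesFiniteLimits (EtCoh.pull f)]
    (h : ∀ q, Function.Bijective (EtCore.Hpull f (EtCoh.const X (ZMod n)) q)) : IsPt n Y ↔ IsPt n X := by
  let e (q : ℕ) : EtCoh.H X (EtCoh.const X (ZMod n)) q ≃+ EtCoh.H Y (EtCoh.const Y (ZMod n)) q :=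
    (AddEquiv.ofBijective _ (h q)).trans ((EtCoh.HF Y q).mapIso (EtCore.pullConst f (ZMod n))).addCommGroupIsoToAddEquiv
  refine ⟨fun hY => ⟨fun q hq => ?_, ⟨(e 0).trans hY.2.some⟩⟩, fun hX => ⟨fun q hq => ?_, ⟨(e 0).symm.trans hX.2.some⟩⟩⟩
  · haveI := hY.1 q hq; exact (e q).toEquiv.subsingleton
  · haveI := hX.1 q hq; exact (e q).symm.toEquiv.subsingleton

theorem isPt_of_iso {X Y : Scheme.{u}} (f : Y ⟶ X) [IsIso f] : IsPt n Y ↔ IsPt n X := by
  haveI := EtSite.preservesFiniteLimits_pull f
  exact isPt_of_bijective f fun q => L28.AcyComp.bijective_Hpull f _ q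

/-- A strictly local scheme has the cohomology of a point. -/
theorem isPt_strict (A : Type u) [CommRing A] [HenselianLocalRing A] [IsSepClosed (ResidueField A)] :
    IsPt n (Spec (CommRingCat.of A)) := by
  refine ⟨fun q hq => EtSite.subsingleton_H A _ q hq, ?_⟩
  let X := Spec (CommRingCat.of A)
  have hc : Function.Bijective (L28.ConstSect.c (ZMod n) (EtCoh.top X)) := by
    refine ⟨L28.ConstSect.c_inj _ (closedPoint A), fun s => ?_⟩
    refine ⟨L28.ConstSect.val s (closedPoint A), L28.ConstSect.val_injective _ _ fun x => ?_⟩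
    rw [L28.ConstSect.val_c]
    have hl := L28.ConstSect.isLocallyConstant_val s
    exact (((IsLocalRing.specializes_closedPoint x).mem_open
      (hl.isOpen_fiber (L28.ConstSect.val s (closedPoint A))) rfl).symm)
  refine ⟨AddEquiv.symm ?_⟩
  let g : ZMod n →+ EtCoh.H X (EtCoh.const X (ZMod n)) 0 :=
    AddMonoidHom.mk' (constClass (ZMod n) X) fun a b => by
      have e : groupHom (ZMod n) (a + b) = groupHom (ZMod n) a + groupHom (ZMod n) b :=
        AddCommGrpCat.hom_ext (AddMonoidHom.ext fun z => smul_add z.down (ULift.up a) (ULift.up b))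
      rw [constClass, e, Functor.map_add, Ext.mk₀_add]
      rfl
  refine AddEquiv.ofBijective g ⟨injective_constClass _ X, fun v => ?_⟩
  obtain ⟨a, rfl⟩ := (Ext.mk₀_bijective _ _).2 v
  obtain ⟨m, hm⟩ := hc.2 (evalOne a)
  exact ⟨m, congrArg Ext.mk₀ (evalOne_injective ((evalOne_constClass _ m).trans hm))⟩

variable {X S : Scheme.{u}} {f : X ⟶ S} (hla : EtRest.IsLocallyAcyclic f) (hn : IsUnit (n : Γ(S, ⊤)))

omit [NeZero n] in
include hn in
theorem natCast_residueField_ne_zero (x : X) (f : X ⟶ S) : (n : X.residueField x) ≠ 0 := by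
  let φ : Γ(S, ⊤) →+* X.residueField x :=
    ((X.evaluation ⊤ x trivial).hom).comp f.appTop.hom
  exact (map_natCast φ n ▸ hn.map φ).ne_zero

include hla hn in
/-- Local acyclicity gives bijectivity on constant coefficients. -/
theorem strongLA_const {Y T : Scheme.{u}} (g : Y ⟶ T) (u : Y ⟶ X) [WeaklyEtale u] (v : T ⟶ S) [WeaklyEtale v]
    (w : u ≫ f = g ≫ v) : StrongLA g (EtCoh.const Y (ZMod n)) := by
  intro R A _ _ _ _ _ _ _ _ a _ b _ hab Ω _ _ _ _ q
  letI : Algebra (S.presheaf.stalk ((a ≫ v) (closedPoint R))) R :=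
    (Scheme.stalkClosedPointTo (a ≫ v)).hom.toAlgebra
  obtain ⟨_, hRS⟩ := isStrictHenselization_closedPointTo R (a ≫ v)
  let x := (b ≫ u) (closedPoint A)
  letI : Algebra (X.presheaf.stalk x) A := (Scheme.stalkClosedPointTo (b ≫ u)).hom.toAlgebra
  obtain ⟨_, hAX⟩ := isStrictHenselization_closedPointTo A (b ≫ u)
  have hwab : (b ≫ u) ≫ f = Spec.map (CommRingCat.ofHom (algebraMap R A)) ≫ (a ≫ v) := by
    rw [Category.assoc, w, ← Category.assoc, hab, Category.assoc]
  have hsx : f x = (a ≫ v) (closedPoint R) := by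
    refine (Scheme.Hom.comp_apply (b ≫ u) f _).symm.trans ?_
    rw [hwab, Scheme.Hom.comp_apply]
    exact congrArg (a ≫ v) (IsLocalRing.comap_closedPoint (algebraMap R A))
  have hpt : IsPt n (Spec (CommRingCat.of (A ⊗[R] Ω))) := by
    have key : ∀ (s : S) (hs : f x = s) [Algebra (S.presheaf.stalk s) R]
        [IsLocalHom (algebraMap (S.presheaf.stalk s) R)] [Hensel.IsStrictHenselization (S.presheaf.stalk s) R],
        Hens2.specOf S s R = a ≫ v → IsPt n (Spec (CommRingCat.of (A ⊗[R] Ω))) := by
      intro s hs _ _ _ hspec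
      subst hs
      have hx : Hens2.specOf X x A = b ≫ u := Scheme.Spec_stalkClosedPointTo_fromSpecStalk (b ≫ u)
      have hc : (algebraMap R A).comp (algebraMap (S.presheaf.stalk (f x)) R) =
          (algebraMap (X.presheaf.stalk x) A).comp (f.stalkMap x).hom := by
        have h : CommRingCat.ofHom (algebraMap (S.presheaf.stalk (f x)) R) ≫ CommRingCat.ofHom (algebraMap R A) =
            f.stalkMap x ≫ CommRingCat.ofHom (algebraMap (X.presheaf.stalk x) A) := by
          apply Spec.map_injective
          rw [← cancel_mono (S.fromSpecStalk (f x)), Spec.map_comp, Spec.map_comp, Category.assoc, Category.assoc,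
            Scheme.SpecMap_stalkMap_fromSpecStalk]
          exact (congrArg (_ ≫ ·) hspec).trans (hwab.symm.trans ((congrArg (· ≫ f) hx.symm).trans (Category.assoc _ _ _)))
        exact congrArg CommRingCat.Hom.hom h
      exact hla x R A hc Ω n (natCast_residueField_ne_zero hn x f)
    exact key _ hsx (Scheme.Spec_stalkClosedPointTo_fromSpecStalk (a ≫ v))
  exact bijective_Hpull_congr _ (EtCore.pullConst b (ZMod n)).symm q
    (bijective_Hpull_isPt _ (isPt_strict A) hpt q)

end Groth.L27.FinBC
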