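import Groth.Agent.L27.StalkBC.BCBase
import Groth.Agent.L27.LimCoh.HMaps
import Groth.Agent.L27.LimBC.LAFibre
import Groth.Agent.L27.HenselClosed.Main
import Groth.Agent.L27.EtSite.BaseChangeIso

/-! # Integral descent of cohomological restriction bijectivity -/

universe u

open CategoryTheory CategoryTheory.Limits AlgebraicGeometry Opposite CategoryTheory.Abelian

set_option backward.isDefEq.respectTransparency.types false
set_option linter.style.haveILetI false
set_option linter.unusedSectionVars false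

noncomputable section

namespace Groth.L27.FinBC

open Groth.L27.LimCoh

variable {Xs X : Scheme.{u}} (i : Xs ⟶ X) [PreservesFiniteLimits (EtCoh.pull i)]

/-- Restriction along `i` is injective. -/
def Inj (G : EtCoh.Ab X) (q : ℕ) : Prop := Function.Injective (EtCore.Hpull i G q)

/-- Restriction along `i` is surjective. -/
def Surj (G : EtCoh.Ab X) (q : ℕ) : Prop := Function.Surjective (EtCore.Hpull i G q)

theorem HF_map_id (G : EtCoh.Ab X) (q : ℕ) (x : EtCoh.H X G q) : (EtCoh.HF X q).map (𝟙 G) x = x := by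
  rw [CategoryTheory.Functor.map_id]; rfl

theorem inj_of_retract {G G' : EtCoh.Ab X} (h : Retract G G') (q : ℕ) (hG : Inj i G' q) : Inj i G q := by
  intro x y hxy
  have e : (EtCoh.HF X q).map h.i x = (EtCoh.HF X q).map h.i y := hG (by rw [Hpull_map, Hpull_map, hxy])
  have e' := congrArg ((EtCoh.HF X q).map h.r) e
  rwa [← HF_map_comp, ← HF_map_comp, h.retract, HF_map_id, HF_map_id] at e'

theorem surj_of_retract {G G' : EtCoh.Ab X} (h : Retract G G') (q : ℕ) (hG : Surj i G' q) : Surj i G q := by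
  intro y
  obtain ⟨x, hx⟩ := hG ((EtCoh.HF Xs q).map ((EtCoh.pull i).map h.i) y)
  refine ⟨(EtCoh.HF X q).map h.r x, ?_⟩
  rw [Hpull_map, hx, ← HF_map_comp, ← Functor.map_comp, h.retract, CategoryTheory.Functor.map_id,
    CategoryTheory.Functor.map_id]
  rfl

theorem inj_of_iso {G G' : EtCoh.Ab X} (e : G ≅ G') (q : ℕ) (hG : Inj i G' q) : Inj i G q :=
  inj_of_retract i ⟨e.hom, e.inv, e.hom_inv_id⟩ q hG

theorem surj_of_iso {G G' : EtCoh.Ab X} (e : G ≅ G') (q : ℕ) (hG : Surj i G' q) : Surj i G q :=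
  surj_of_retract i ⟨e.hom, e.inv, e.hom_inv_id⟩ q hG

section Chase

variable {E : ShortComplex (EtCoh.Ab X)} (hE : E.ShortExact)
include hE

theorem inj_first_zero (h₂ : Inj i E.X₂ 0) : Inj i E.X₁ 0 := by
  haveI := hE.mono_f
  intro x y hxy
  have e : (EtCoh.HF X 0).map E.f x = (EtCoh.HF X 0).map E.f y := h₂ (by rw [Hpull_map, Hpull_map, hxy])
  rw [EtSite.HF_map_apply, EtSite.HF_map_apply] at e
  exact Ext.postcomp_mk₀_injective_of_mono _ E.f e

theorem inj_first_succ (q : ℕ) (h₂ : Inj i E.X₂ (q + 1)) (h₂' : Surj i E.X₂ q) (h₃ : Inj i E.X₃ q) :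
    Inj i E.X₁ (q + 1) := by
  refine (injective_iff_map_eq_zero _).2 fun x hx => ?_
  have hfx : (EtCoh.HF X (q + 1)).map E.f x = 0 :=
    h₂ (((Hpull_map i E.f _ x).trans ((congrArg _ hx).trans (map_zero _))).trans (map_zero _).symm)
  obtain ⟨y, rfl⟩ := exists_δH hE q x hfx
  rw [Hpull_δH i hE] at hx
  obtain ⟨w, hw⟩ := exists_map_of_δH_eq_zero (hE.map_of_exact (EtCoh.pull i)) q _ hx
  obtain ⟨w', rfl⟩ := h₂' w
  obtain rfl : (EtCoh.HF X q).map E.g w' = y := h₃ ((Hpull_map i E.g q w').trans hw)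
  exact δH_map_g hE q w'

theorem exists_map_f (q : ℕ) (x : EtCoh.H X E.X₂ q) (h : (EtCoh.HF X q).map E.g x = 0) :
    ∃ z : EtCoh.H X E.X₁ q, (EtCoh.HF X q).map E.f z = x := by
  rw [EtSite.HF_map_apply] at h
  obtain ⟨z, hz⟩ := Ext.covariant_sequence_exact₂ _ hE x h
  exact ⟨z, (EtSite.HF_map_apply _ _ _).trans hz⟩

theorem surj_first_zero (h₂ : Surj i E.X₂ 0) (h₃ : Inj i E.X₃ 0) : Surj i E.X₁ 0 := by
  intro y
  obtain ⟨x, hx⟩ := h₂ ((EtCoh.HF Xs 0).map ((EtCoh.pull i).map E.f) y)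
  have hg : (EtCoh.HF X 0).map E.g x = 0 := h₃ (by
    rw [Hpull_map, hx, ← HF_map_comp, ← Functor.map_comp, E.zero, Functor.map_zero, Functor.map_zero]
    exact (map_zero _).symm)
  obtain ⟨z, rfl⟩ := exists_map_f hE 0 x hg
  haveI := hE.mono_f
  haveI : Mono ((EtCoh.pull i).map E.f) := inferInstance
  rw [Hpull_map, EtSite.HF_map_apply, EtSite.HF_map_apply] at hx
  exact ⟨z, Ext.postcomp_mk₀_injective_of_mono _ ((EtCoh.pull i).map E.f) hx⟩

theorem surj_first_succ (q : ℕ) (h₂ : Surj i E.X₂ (q + 1)) (h₃ : Inj i E.X₃ (q + 1)) (h₃' : Surj i E.X₃ q) :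
    Surj i E.X₁ (q + 1) := by
  intro y
  obtain ⟨x, hx⟩ := h₂ ((EtCoh.HF Xs (q + 1)).map ((EtCoh.pull i).map E.f) y)
  have hg : (EtCoh.HF X (q + 1)).map E.g x = 0 := h₃ (by
    rw [Hpull_map, hx, ← HF_map_comp, ← Functor.map_comp, E.zero, Functor.map_zero, Functor.map_zero]
    exact (map_zero _).symm)
  obtain ⟨z, rfl⟩ := exists_map_f hE (q + 1) x hg
  have h0 : (EtCoh.HF Xs (q + 1)).map ((EtCoh.pull i).map E.f) (y - EtCore.Hpull i E.X₁ (q + 1) z) = 0 := by
    exact (map_sub _ y _).trans (sub_eq_zero.2 (hx.symm.trans (Hpull_map i E.f _ z)))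
  obtain ⟨v, hv⟩ := exists_δH (hE.map_of_exact (EtCoh.pull i)) q _ h0
  obtain ⟨v', rfl⟩ := h₃' v
  refine ⟨z + δH hE q v', ?_⟩
  rw [map_add, Hpull_δH i hE]
  exact (congrArg (fun w : EtCoh.H Xs ((EtCoh.pull i).obj E.X₁) (q + 1) => EtCore.Hpull i E.X₁ (q + 1) z + w) hv).trans
    (add_sub_cancel _ _)

end Chase

section Descent

variable {B : Scheme.{u}} (p : X ⟶ B) (F : EtCoh.Ab X)

/-- The direct image of the restriction of `F` to the base change to `T`. -/
abbrev M {T : Scheme.{u}} (t : T ⟶ B) : EtCoh.Ab X :=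
  (EtCoh.push (pullback.fst p t)).obj ((EtCoh.pull (pullback.fst p t)).obj F)

variable {T T' : Scheme.{u}} (t : T ⟶ B) (π : T' ⟶ T)

/-- The base change of `π`. -/
abbrev Xmap : pullback p (π ≫ t) ⟶ pullback p t :=
  pullback.lift (pullback.fst p (π ≫ t)) (pullback.snd p (π ≫ t) ≫ π)
    (by rw [Category.assoc]; exact pullback.condition)

theorem Xmap_fst : Xmap p t π ≫ pullback.fst p t = pullback.fst p (π ≫ t) := pullback.lift_fst _ _ _

theorem isPullback_Xmap :
    IsPullback (Xmap p t π) (pullback.snd p (π ≫ t)) (pullback.snd p t) π := by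
  refine IsPullback.of_right (v₁₃ := p) (h₁₂ := pullback.fst p t) (h₂₂ := t) ?_ (pullback.lift_snd _ _ _)
    (IsPullback.of_hasPullback p t)
  rw [Xmap_fst]
  exact IsPullback.of_hasPullback p (π ≫ t)

instance isIntegralHom_Xmap [IsIntegralHom π] : IsIntegralHom (Xmap p t π) :=
  MorphismProperty.of_isPullback (P := @IsIntegralHom) (isPullback_Xmap p t π).flip inferInstance

instance surjective_Xmap [Surjective π] : Surjective (Xmap p t π) :=
  MorphismProperty.of_isPullback (P := @Surjective) (isPullback_Xmap p t π).flip inferInstance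

theorem isPullback_Xmap_Xmap {C : Scheme.{u}} (c : C ⟶ T') :
    IsPullback (Xmap p (π ≫ t) c) (pullback.snd p (c ≫ π ≫ t)) (pullback.snd p (π ≫ t)) c :=
  isPullback_Xmap p (π ≫ t) c

/-- Restrictions of `F` are compatible. -/
def pullXmap : (EtCoh.pull (Xmap p t π)).obj ((EtCoh.pull (pullback.fst p t)).obj F) ≅
    (EtCoh.pull (pullback.fst p (π ≫ t))).obj F :=
  ((EtCore.pullComp (Xmap p t π) (pullback.fst p t)).symm ≪≫ EtCore.pullCongr (Xmap_fst p t π)).app F

/-- Direct images compose. -/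
def pushXmap (G : EtCoh.Ab (pullback p (π ≫ t))) :
    (EtCoh.push (pullback.fst p t)).obj ((EtCoh.push (Xmap p t π)).obj G) ≅
      (EtCoh.push (pullback.fst p (π ≫ t))).obj G :=
  (EtCoh.pushComp (pullback.fst p t) (Xmap p t π) ≪≫ EtCoh.pushCongr (Xmap_fst p t π)).app G

/-- Sheaves whose restriction to the cover is a retract of a standard one. -/
def Cls (G : EtCoh.Ab (pullback p t)) : Prop :=
  ∃ (C : Scheme.{u}) (c : C ⟶ T') (_ : IsIntegralHom c),
    Nonempty (Retract ((EtCoh.pull (Xmap p t π)).obj G)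
      ((EtCoh.push (Xmap p (π ≫ t) c)).obj ((EtCoh.pull (pullback.fst p (c ≫ π ≫ t))).obj F)))

theorem cls_restriction : Cls p F t π ((EtCoh.pull (pullback.fst p t)).obj F) := by
  refine ⟨T', 𝟙 T', inferInstance, ⟨?_⟩⟩
  let m := Xmap p (π ≫ t) (𝟙 T')
  haveI : IsIso m := (isPullback_Xmap p (π ≫ t) (𝟙 T')).isIso_fst_of_isIso
  haveI : IsIso ((EtCoh.pullPushAdj m).unit.app ((EtCoh.pull (pullback.fst p (π ≫ t))).obj F)) :=
    L28.AcyComp.isIso_unit m _
  exact Retract.ofIso (pullXmap p F t π ≪≫ asIso ((EtCoh.pullPushAdj m).unit.app _) ≪≫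
    (EtCoh.push m).mapIso (pullXmap p F (π ≫ t) (𝟙 T')))

variable {t π}

theorem retract_push_pushPull [IsIntegralHom π] {G : EtCoh.Ab (pullback p t)} (hG : Cls p F t π G) :
    ∃ (C : Scheme.{u}) (c : C ⟶ B), (IsIntegralHom t → IsIntegralHom c) ∧
      Nonempty (Retract ((EtCoh.push (pullback.fst p t)).obj
        ((EtCoh.push (Xmap p t π)).obj ((EtCoh.pull (Xmap p t π)).obj G))) (M p F c)) := by
  obtain ⟨C, c, _, ⟨r⟩⟩ := hG
  refine ⟨C, c ≫ π ≫ t, fun _ => inferInstance, ⟨?_⟩⟩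
  exact (r.map (EtCoh.push (Xmap p t π) ⋙ EtCoh.push (pullback.fst p t))).trans
    (Retract.ofIso (pushXmap p t π _ ≪≫ pushXmap p (π ≫ t) c _))

theorem cls_coker [IsIntegralHom π] {G : EtCoh.Ab (pullback p t)} (hG : Cls p F t π G) :
    Cls p F t π (cokernel ((EtCoh.pullPushAdj (Xmap p t π)).unit.app G)) := by
  obtain ⟨C, c, hc, ⟨r⟩⟩ := hG
  let π' := Xmap p t π
  let η : G ⟶ (EtCoh.push π').obj ((EtCoh.pull π').obj G) := (EtCoh.pullPushAdj π').unit.app G
  let C' := pullback π (c ≫ π)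
  let c' : C' ⟶ T' := pullback.fst π (c ≫ π)
  refine ⟨C', c', inferInstance, ⟨?_⟩⟩
  haveI : PreservesColimitsOfSize.{0, 0} (EtCoh.pull π') := (EtCoh.pullPushAdj π').leftAdjoint_preservesColimits
  -- the cokernel is a direct summand
  let ε : (EtCoh.pull π').obj ((EtCoh.push π').obj ((EtCoh.pull π').obj G)) ⟶ (EtCoh.pull π').obj G :=
    (EtCoh.pullPushAdj π').counit.app ((EtCoh.pull π').obj G)
  have hε : (EtCoh.pull π').map η ≫ ε = 𝟙 _ := (EtCoh.pullPushAdj π').left_triangle_components G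
  let s : cokernel ((EtCoh.pull π').map η) ⟶ (EtCoh.pull π').obj ((EtCoh.push π').obj ((EtCoh.pull π').obj G)) :=
    cokernel.desc _ (𝟙 _ - ε ≫ (EtCoh.pull π').map η) (by
      rw [Preadditive.comp_sub, Category.comp_id, ← Category.assoc, hε, Category.id_comp, sub_self])
  have hs : s ≫ cokernel.π _ = 𝟙 _ := by
    rw [← cancel_epi (cokernel.π ((EtCoh.pull π').map η)), ← Category.assoc, cokernel.π_desc,
      Preadditive.sub_comp, Category.id_comp, Category.assoc, cokernel.condition, comp_zero, sub_zero,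
      Category.comp_id]
  let r₁ : Retract ((EtCoh.pull π').obj (cokernel η))
      ((EtCoh.pull π').obj ((EtCoh.push π').obj ((EtCoh.pull π').obj G))) :=
    (Retract.ofIso (PreservesCokernel.iso (EtCoh.pull π') η)).trans ⟨s, cokernel.π _, hs⟩
  refine r₁.trans ((r.map (EtCoh.push π' ⋙ EtCoh.pull π')).trans (Retract.ofIso ?_))
  -- base change along the cover
  let m := Xmap p (π ≫ t) c
  let m' := Xmap p (π ≫ t) c'
  have hco : (c' ≫ π ≫ t) = pullback.snd π (c ≫ π) ≫ c ≫ π ≫ t := by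
    rw [← Category.assoc, pullback.condition, Category.assoc, Category.assoc]
  let g' : pullback p (c' ≫ π ≫ t) ⟶ pullback p (c ≫ π ≫ t) :=
    pullback.lift (pullback.fst p _) (pullback.snd p _ ≫ pullback.snd π (c ≫ π))
      (by rw [Category.assoc, ← hco]; exact pullback.condition)
  have cB : IsPullback g' (pullback.snd p (c' ≫ π ≫ t)) (pullback.snd p (c ≫ π ≫ t)) (pullback.snd π (c ≫ π)) := by
    refine IsPullback.of_right (v₁₃ := p) (h₁₂ := pullback.fst p _) (h₂₂ := c ≫ π ≫ t) ?_ (pullback.lift_snd _ _ _)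
      (IsPullback.of_hasPullback p _)
    rw [pullback.lift_fst, ← hco]
    exact IsPullback.of_hasPullback p _
  have hw : g' ≫ m ≫ π' = m' ≫ π' := pullback.hom_ext
    (by simp only [g', m, m', π', Category.assoc, pullback.lift_fst])
    (by
      simp only [g', m, m', π', Category.assoc, pullback.lift_snd, pullback.lift_snd_assoc]
      exact congrArg (pullback.snd p _ ≫ ·) pullback.condition.symm)
  have hT : m ≫ π' ≫ pullback.snd p t = pullback.snd p (c ≫ π ≫ t) ≫ c ≫ π := by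
    simp only [m, π', pullback.lift_snd, pullback.lift_snd_assoc, Category.assoc]
  have sq : IsPullback g' m' (m ≫ π') π' := by
    refine IsPullback.of_bot (v₂₁ := pullback.snd p (π ≫ t)) (v₂₂ := pullback.snd p t) (h₃₁ := π) ?_ hw
      (isPullback_Xmap p t π)
    rw [Category.assoc, hT, show m' ≫ pullback.snd p (π ≫ t) = pullback.snd p _ ≫ c' from pullback.lift_snd _ _ _]
    exact cB.paste_vert (IsPullback.of_hasPullback π (c ≫ π)).flip
  haveI := EtSite.BC.isIso_baseChange0 sq ((EtCoh.pull (pullback.fst p (c ≫ π ≫ t))).obj F)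
  exact (EtCoh.pull π').mapIso ((EtCoh.pushComp π' m).app _) ≪≫
    asIso (EtCoh.baseChange0 (m ≫ π') π' m' g' sq.w ((EtCoh.pull (pullback.fst p (c ≫ π ≫ t))).obj F)) ≪≫
      (EtCoh.push m').mapIso (((EtCore.pullComp g' (pullback.fst p (c ≫ π ≫ t))).symm ≪≫
        EtCore.pullCongr (pullback.lift_fst _ _ _)).app F)

/-- Restriction is bijective for all integral base changes as soon as this holds after covers. -/
theorem bijective_of_cover
    (hcov : ∀ (T : Scheme.{u}) (t : T ⟶ B) [IsIntegralHom t],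
      ∃ (T' : Scheme.{u}) (π : T' ⟶ T) (_ : IsIntegralHom π) (_ : Surjective π),
        ∀ q, Function.Bijective (EtCore.Hpull i (M p F (π ≫ t)) q))
    (T : Scheme.{u}) (t : T ⟶ B) [IsIntegralHom t] (q : ℕ) :
    Function.Bijective (EtCore.Hpull i (M p F t) q) := by
  -- the short exact sequence attached to a sheaf on a base change
  have hseq : ∀ (T T' : Scheme.{u}) (t : T ⟶ B) (_ : IsIntegralHom t) (π : T' ⟶ T) (_ : IsIntegralHom π)
      (_ : Surjective π) (G : EtCoh.Ab (pullback p t)),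
      ∃ (E : ShortComplex (EtCoh.Ab X)) (_ : E.ShortExact),
        Nonempty ((EtCoh.push (pullback.fst p t)).obj G ≅ E.X₁) ∧
        Nonempty (E.X₂ ≅ (EtCoh.push (pullback.fst p t)).obj
          ((EtCoh.push (Xmap p t π)).obj ((EtCoh.pull (Xmap p t π)).obj G))) ∧
        Nonempty (E.X₃ ≅ (EtCoh.push (pullback.fst p t)).obj
          (cokernel ((EtCoh.pullPushAdj (Xmap p t π)).unit.app G))) := by
    intro T T' t _ π _ _ G
    let η := (EtCoh.pullPushAdj (Xmap p t π)).unit.app G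
    haveI : Mono η := HenselClosed.mono_unit (Xmap p t π) G
    haveI : IsIntegralHom (pullback.fst p t) := inferInstance
    haveI : PreservesFiniteColimits (EtCoh.push (pullback.fst p t)) :=
      StalkBC.preservesFiniteColimits_push_integral _
    haveI : PreservesLimitsOfSize.{0, 0} (EtCoh.push (pullback.fst p t)) :=
      (EtCoh.pullPushAdj _).rightAdjoint_preservesLimits
    haveI : PreservesFiniteLimits (EtCoh.push (pullback.fst p t)) := PreservesLimitsOfSize.preservesFiniteLimits _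
    let E₀ : ShortComplex (EtCoh.Ab (pullback p t)) := ShortComplex.mk η (cokernel.π η) (cokernel.condition η)
    have hE₀ : E₀.ShortExact :=
      { exact := E₀.exact_of_g_is_cokernel (cokernelIsCokernel η) }
    exact ⟨_, hE₀.map_of_exact (EtCoh.push (pullback.fst p t)), ⟨Iso.refl _⟩, ⟨Iso.refl _⟩, ⟨Iso.refl _⟩⟩
  let A (q : ℕ) : Prop := ∀ (T : Scheme.{u}) (t : T ⟶ B), IsIntegralHom t → Inj i (M p F t) q ∧ Surj i (M p F t) q
  let Bq (q : ℕ) : Prop := ∀ (T T' : Scheme.{u}) (t : T ⟶ B) (_ : IsIntegralHom t) (π : T' ⟶ T)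
    (_ : IsIntegralHom π) (_ : Surjective π) (G : EtCoh.Ab (pullback p t)), Cls p F t π G →
      Inj i ((EtCoh.push (pullback.fst p t)).obj G) q ∧ Surj i ((EtCoh.push (pullback.fst p t)).obj G) q
  suffices key : ∀ q, A q ∧ Bq q by exact (key q).1 T t inferInstance
  intro q
  induction q with
  | zero =>
    have a : ∀ (T : Scheme.{u}) (t : T ⟶ B), IsIntegralHom t → Inj i (M p F t) 0 := by
      intro T t _
      obtain ⟨T', π, _, _, hgood⟩ := hcov T t
      obtain ⟨E, hE, ⟨e₁⟩, ⟨e₂⟩, -⟩ := hseq T T' t inferInstance π inferInstance inferInstance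
        ((EtCoh.pull (pullback.fst p t)).obj F)
      refine inj_of_iso i e₁ 0 (inj_first_zero i hE (inj_of_iso i (e₂ ≪≫ ?_) 0 (hgood 0).1))
      exact (EtCoh.push (pullback.fst p t)).mapIso ((EtCoh.push (Xmap p t π)).mapIso (pullXmap p F t π)) ≪≫
        pushXmap p t π _
    have b : ∀ (T T' : Scheme.{u}) (t : T ⟶ B) (_ : IsIntegralHom t) (π : T' ⟶ T) (_ : IsIntegralHom π)
        (_ : Surjective π) (G : EtCoh.Ab (pullback p t)), Cls p F t π G →
          Inj i ((EtCoh.push (pullback.fst p t)).obj G) 0 := by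
      intro T T' t ht π _ _ G hG
      obtain ⟨E, hE, ⟨e₁⟩, ⟨e₂⟩, -⟩ := hseq T T' t ht π inferInstance inferInstance G
      obtain ⟨C, c, hc, ⟨r⟩⟩ := retract_push_pushPull p F hG
      exact inj_of_iso i e₁ 0 (inj_first_zero i hE
        (inj_of_iso i e₂ 0 (inj_of_retract i r 0 (a C c (hc ht)))))
    have c : ∀ (T : Scheme.{u}) (t : T ⟶ B), IsIntegralHom t → Surj i (M p F t) 0 := by
      intro T t _
      obtain ⟨T', π, _, _, hgood⟩ := hcov T t
      obtain ⟨E, hE, ⟨e₁⟩, ⟨e₂⟩, ⟨e₃⟩⟩ := hseq T T' t inferInstance π inferInstance inferInstance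
        ((EtCoh.pull (pullback.fst p t)).obj F)
      refine surj_of_iso i e₁ 0 (surj_first_zero i hE (surj_of_iso i (e₂ ≪≫ ?_) 0 (hgood 0).2)
        (inj_of_iso i e₃ 0 (b T T' t inferInstance π inferInstance inferInstance _
          (cls_coker p F (cls_restriction p F t π)))))
      exact (EtCoh.push (pullback.fst p t)).mapIso ((EtCoh.push (Xmap p t π)).mapIso (pullXmap p F t π)) ≪≫
        pushXmap p t π _
    refine ⟨fun T t ht => ⟨a T t ht, c T t ht⟩, fun T T' t ht π _ _ G hG => ⟨b T T' t ht π inferInstance inferInstance G hG, ?_⟩⟩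
    obtain ⟨E, hE, ⟨e₁⟩, ⟨e₂⟩, ⟨e₃⟩⟩ := hseq T T' t ht π inferInstance inferInstance G
    obtain ⟨C, c', hc, ⟨r⟩⟩ := retract_push_pushPull p F hG
    exact surj_of_iso i e₁ 0 (surj_first_zero i hE
      (surj_of_iso i e₂ 0 (surj_of_retract i r 0 (c C c' (hc ht))))
      (inj_of_iso i e₃ 0 (b T T' t ht π inferInstance inferInstance _ (cls_coker p F hG))))
  | succ q ih =>
    obtain ⟨ihA, ihB⟩ := ih
    have a : ∀ (T : Scheme.{u}) (t : T ⟶ B), IsIntegralHom t → Inj i (M p F t) (q + 1) := by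
      intro T t _
      obtain ⟨T', π, _, _, hgood⟩ := hcov T t
      obtain ⟨E, hE, ⟨e₁⟩, ⟨e₂⟩, ⟨e₃⟩⟩ := hseq T T' t inferInstance π inferInstance inferInstance
        ((EtCoh.pull (pullback.fst p t)).obj F)
      have e₂' : E.X₂ ≅ M p F (π ≫ t) := e₂ ≪≫
        (EtCoh.push (pullback.fst p t)).mapIso ((EtCoh.push (Xmap p t π)).mapIso (pullXmap p F t π)) ≪≫
          pushXmap p t π _
      exact inj_of_iso i e₁ _ (inj_first_succ i hE q (inj_of_iso i e₂' _ (hgood _).1)
        (surj_of_iso i e₂' _ (hgood _).2)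
        (inj_of_iso i e₃ _ (ihB T T' t inferInstance π inferInstance inferInstance _
          (cls_coker p F (cls_restriction p F t π))).1))
    have b : ∀ (T T' : Scheme.{u}) (t : T ⟶ B) (_ : IsIntegralHom t) (π : T' ⟶ T) (_ : IsIntegralHom π)
        (_ : Surjective π) (G : EtCoh.Ab (pullback p t)), Cls p F t π G →
          Inj i ((EtCoh.push (pullback.fst p t)).obj G) (q + 1) := by
      intro T T' t ht π _ _ G hG
      obtain ⟨E, hE, ⟨e₁⟩, ⟨e₂⟩, ⟨e₃⟩⟩ := hseq T T' t ht π inferInstance inferInstance G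
      obtain ⟨C, c, hc, ⟨r⟩⟩ := retract_push_pushPull p F hG
      exact inj_of_iso i e₁ _ (inj_first_succ i hE q
        (inj_of_iso i e₂ _ (inj_of_retract i r _ (a C c (hc ht))))
        (surj_of_iso i e₂ _ (surj_of_retract i r _ (ihA C c (hc ht)).2))
        (inj_of_iso i e₃ _ (ihB T T' t ht π inferInstance inferInstance _ (cls_coker p F hG)).1))
    have c : ∀ (T : Scheme.{u}) (t : T ⟶ B), IsIntegralHom t → Surj i (M p F t) (q + 1) := by
      intro T t _
      obtain ⟨T', π, _, _, hgood⟩ := hcov T t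
      obtain ⟨E, hE, ⟨e₁⟩, ⟨e₂⟩, ⟨e₃⟩⟩ := hseq T T' t inferInstance π inferInstance inferInstance
        ((EtCoh.pull (pullback.fst p t)).obj F)
      have e₂' : E.X₂ ≅ M p F (π ≫ t) := e₂ ≪≫
        (EtCoh.push (pullback.fst p t)).mapIso ((EtCoh.push (Xmap p t π)).mapIso (pullXmap p F t π)) ≪≫
          pushXmap p t π _
      have hQ := cls_coker p F (cls_restriction p F t π)
      exact surj_of_iso i e₁ _ (surj_first_succ i hE q (surj_of_iso i e₂' _ (hgood _).2)
        (inj_of_iso i e₃ _ (b T T' t inferInstance π inferInstance inferInstance _ hQ))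
        (surj_of_iso i e₃ _ (ihB T T' t inferInstance π inferInstance inferInstance _ hQ).2))
    refine ⟨fun T t ht => ⟨a T t ht, c T t ht⟩, fun T T' t ht π _ _ G hG => ⟨b T T' t ht π inferInstance inferInstance G hG, ?_⟩⟩
    obtain ⟨E, hE, ⟨e₁⟩, ⟨e₂⟩, ⟨e₃⟩⟩ := hseq T T' t ht π inferInstance inferInstance G
    obtain ⟨C, c', hc, ⟨r⟩⟩ := retract_push_pushPull p F hG
    exact surj_of_iso i e₁ _ (surj_first_succ i hE q
      (surj_of_iso i e₂ _ (surj_of_retract i r _ (c C c' (hc ht))))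
      (inj_of_iso i e₃ _ (b T T' t ht π inferInstance inferInstance _ (cls_coker p F hG)))
      (surj_of_iso i e₃ _ (ihB T T' t ht π inferInstance inferInstance _ (cls_coker p F hG)).2))

/-- Restriction is bijective for the sheaf itself. -/
theorem bijective_of_cover_self
    (hcov : ∀ (T : Scheme.{u}) (t : T ⟶ B) [IsIntegralHom t],
      ∃ (T' : Scheme.{u}) (π : T' ⟶ T) (_ : IsIntegralHom π) (_ : Surjective π),
        ∀ q, Function.Bijective (EtCore.Hpull i (M p F (π ≫ t)) q))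
    (q : ℕ) : Function.Bijective (EtCore.Hpull i F q) := by
  have h := bijective_of_cover i p F hcov B (𝟙 B) q
  haveI := L28.AcyComp.isIso_unit (pullback.fst p (𝟙 B)) F
  exact Groth.L27.LimBC.bijective_Hpull_congr i (asIso ((EtCoh.pullPushAdj (pullback.fst p (𝟙 B))).unit.app F)).symm q h

end Descent

end Groth.L27.FinBC
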