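import Groth.Agent.L27.StalkBC.BCBase

/-! # Base change passes out of integral changes of the base -/

universe u

open CategoryTheory CategoryTheory.Limits AlgebraicGeometry Opposite

set_option backward.defeqAttrib.useBackward true
set_option backward.isDefEq.respectTransparency false
set_option backward.isDefEq.respectTransparency.types false
set_option linter.style.haveILetI false
set_option linter.unusedSectionVars false

noncomputable section

namespace Groth.L27.StalkBC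

open Groth.L27.LimCoh Groth.L27.LimBC Groth.L10.EtBCComp

attribute [local instance] preservesInjectiveObjects_push

variable {S'' S' T : Scheme.{u}} (π : S'' ⟶ S') [IsIntegralHom π] (g' : T ⟶ S'') (q : ℕ)
variable {X' X'' Y : Scheme.{u}} (f' : X' ⟶ S') (f'' : X'' ⟶ S'') (π' : X'' ⟶ X') (hX'' : IsPullback π' f'' f' π)
  (h' : Y ⟶ X'') (e : Y ⟶ T) (win : e ≫ g' = h' ≫ f'') (wout : e ≫ g' ≫ π = (h' ≫ π') ≫ f')
  [PreservesFiniteLimits (EtCoh.pull e)] (F : EtCoh.Ab T)

include hX'' in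
/-- Base change passes out of integral changes of the base. -/
theorem isIso_bcQ_integral_out (hiso : IsIso (EtBC.bcQ g' f'' h' e win q F)) :
    IsIso (EtBC.bcQ (g' ≫ π) f' (h' ≫ π') e wout q F) := by
  haveI : IsIntegralHom π' := MorphismProperty.of_isPullback (P := @IsIntegralHom) hX''.flip inferInstance
  have wT : 𝟙 T ≫ (g' ≫ π) = g' ≫ π := Category.id_comp _
  have wY : 𝟙 Y ≫ (h' ≫ π') = h' ≫ π' := Category.id_comp _
  have w₃ : e ≫ g' ≫ π = h' ≫ π' ≫ f' := wout.trans (Category.assoc _ _ _)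
  let θT := Θ (g' ≫ π) π g' (𝟙 T) wT q (pushUnit₀ (𝟙 T) rfl F)
  let θY := Θ (h' ≫ π') π' h' (𝟙 Y) wY q (pushUnit₀ (𝟙 Y) rfl ((EtCoh.pull e).obj F))
  haveI : IsIso θT := isIso_Θ_unit₀ π g' (g' ≫ π) wT q F
  haveI : IsIso θY := isIso_Θ_unit₀ π' h' (h' ≫ π') wY q ((EtCoh.pull e).obj F)
  let bin := EtBC.bcQ g' f'' h' e win q F
  let bout := EtBC.bcQ (g' ≫ π) f' (h' ≫ π') e wout q F
  let Z := (EtCoh.Rpush g' q).obj F
  have h₁ := Θ_comp (g' ≫ π) (h' ≫ π') h' (u₁ := f') (u₂ := π') wout wY w₃ rfl (Category.id_comp e) q (un e F)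
    (pushUnit₀ (𝟙 Y) rfl ((EtCoh.pull e).obj F))
  have h₂ := Θ_comp (g' ≫ π) g' h' (u₁ := π) (u₂ := f'') wT win w₃ hX''.w.symm (Category.comp_id e) q
    (pushUnit₀ (𝟙 T) rfl F) (un e F)
  have ha : un e F ≫ (EtCoh.push e).map (pushUnit₀ (𝟙 Y) rfl ((EtCoh.pull e).obj F)) ≫
      pushJoin (𝟙 Y) e (Category.id_comp e) ((EtCoh.pull e).obj F) =
      pushUnit₀ (𝟙 T) rfl F ≫ (EtCoh.push (𝟙 T)).map (un e F) ≫
        pushJoin e (𝟙 T) (Category.comp_id e) ((EtCoh.pull e).obj F) := by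
    rw [pushUnit₀_pushJoin_right, Category.comp_id, ← Category.assoc, pushUnit₀_naturality, Category.assoc,
      ← pushSplit_unit₀ e (𝟙 T) rfl (Category.comp_id e), pushSplit_pushJoin, Category.comp_id]
  have h₃ := h₁.trans ((congrArg (Θ (g' ≫ π) (π' ≫ f') h' e w₃ q) ha).trans h₂.symm)
  rw [← bcQAdj_eq_Θ (g' ≫ π) f' (h' ≫ π') e wout q F, ← bcQAdj_eq_Θ g' f'' h' e win q F,
    ← CompTransfer.pushJoin_congr f'' π hX''.w.symm, ← pushComp_hom_app π' f'] at h₃
  let b₀ : (EtCoh.pull f').obj ((EtCoh.push π).obj Z) ⟶ (EtCoh.push π').obj ((EtCoh.pull f'').obj Z) :=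
    EtCoh.baseChange0 π f' π' f'' hX''.w.symm Z
  haveI : IsIso b₀ := EtSite.BC.isIso_baseChange0 hX''.flip Z
  have eb : EtBC.bcQAdj g' f'' h' e win q F = un f'' Z ≫ (EtCoh.push f'').map bin :=
    (Equiv.apply_symm_apply _ _).symm.trans ((EtCoh.pullPushAdj f'').homEquiv_unit _ _ _)
  have key : bout ≫ θY = (EtCoh.pull f').map θT ≫ b₀ ≫ (EtCoh.push π').map bin := by
    refine ((EtCoh.pullPushAdj f').homEquiv _ _).injective ?_
    rw [Adjunction.homEquiv_naturality_right, Adjunction.homEquiv_naturality_left,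
      Adjunction.homEquiv_naturality_right]
    simp only [bout, b₀, EtBC.bcQ, EtCoh.baseChange0, Equiv.apply_symm_apply]
    rw [← cancel_mono ((EtCoh.pushComp f' π').hom.app _), Category.assoc]
    refine h₃.trans ?_
    rw [eb, Functor.map_comp]
    simp only [Category.assoc]
    erw [(EtCoh.pushComp π f'').hom.naturality_assoc, (EtCoh.pushCongr hX''.w.symm).hom.naturality,
      (EtCoh.pushComp f' π').hom.naturality]
    erw [Equiv.apply_symm_apply]
    simp only [Category.assoc, Iso.inv_hom_id_app_assoc]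
    rfl
  haveI : IsIso bin := hiso
  haveI : IsIso (bout ≫ θY) := key ▸ inferInstance
  exact IsIso.of_isIso_comp_right bout θY

end Groth.L27.StalkBC
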