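import Groth.Agent.L27.FinBC.Local
import Groth.Agent.L27.FinBC.Descent
import Groth.Agent.L27.FinBC.IntegralOut
import Groth.Agent.L27.StalkBC.ProfBase
import Groth.Agent.L05.HensTensor.WEHens

/-! # Restriction to the closed fibre over absolutely integrally closed covers -/

universe u

open CategoryTheory CategoryTheory.Limits AlgebraicGeometry Opposite IsLocalRing

set_option backward.isDefEq.respectTransparency.types false
set_option linter.style.haveILetI false
set_option linter.unusedSectionVars false

noncomputable section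

namespace Groth.L27.FinBC

open Groth.L27.LimCoh Groth.L27.LimBC

theorem isPullback_congr {C : Type*} [Category C] {P A B D : C} {a a' : P ⟶ A} {b : P ⟶ B} {f : A ⟶ D}
    {g g' : B ⟶ D} (ha : a = a') (hg : g = g') (h : IsPullback a b f g) : IsPullback a' b f g' := by
  subst ha hg
  exact h

theorem isIso_bcQ_congr' {X S Y T : Scheme.{u}} {g₁ g₂ : T ⟶ S} (f : X ⟶ S) {h₁ h₂ : Y ⟶ X} (e : Y ⟶ T)
    (hg : g₁ = g₂) (hh : h₁ = h₂) [PreservesFiniteLimits (EtCoh.pull e)] (w₁ : e ≫ g₁ = h₁ ≫ f)
    (w₂ : e ≫ g₂ = h₂ ≫ f) (q : ℕ) (F : EtCoh.Ab T) (hiso : IsIso (EtBC.bcQ g₁ f h₁ e w₁ q F)) :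
    IsIso (EtBC.bcQ g₂ f h₂ e w₂ q F) := by
  subst hg hh
  exact hiso

variable {R : Type u} [CommRing R] [HenselianLocalRing R] [IsSepClosed (ResidueField R)]
  {X : Scheme.{u}} (p : X ⟶ Spec (CommRingCat.of R)) [QuasiCompact p] [QuasiSeparated p] (F : EtCoh.Ab X)

/-- Restriction to the closed fibre is bijective over absolutely integrally closed domains. -/
def DomainHyp : Prop :=
  ∀ (N : Type u) [CommRing N] [IsDomain N] [IsLocalRing N] [Algebra R N] [Algebra.IsIntegral R N],
    L20.IntCover.HasRoots N → ∀ (K : Type u) [Field K] (r : N →+* K), Function.Surjective r →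
    ∀ (W V : Scheme.{u}) (a : W ⟶ X) (bW : W ⟶ Spec (CommRingCat.of N)),
      IsPullback a bW p (Spec.map (CommRingCat.ofHom (algebraMap R N))) →
      ∀ (j : V ⟶ W) (bV : V ⟶ Spec (CommRingCat.of K)),
        IsPullback j bV bW (Spec.map (CommRingCat.ofHom r)) →
        ∀ [PreservesFiniteLimits (EtCoh.pull j)] (q : ℕ),
          Function.Bijective (EtCore.Hpull j ((EtCoh.pull a).obj F) q)

variable {Xs : Scheme.{u}} (i : Xs ⟶ X) (ps : Xs ⟶ Spec (CommRingCat.of (ResidueField R)))
  (cs : IsPullback i ps p (Spec.map (CommRingCat.ofHom (residue R)))) [PreservesFiniteLimits (EtCoh.pull i)]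

include cs in
theorem bijective_M_cover (hN : DomainHyp p F) (A : Type u) [CommRing A] [Algebra R A] [Algebra.IsIntegral R A]
    (hA : ∀ (z : Ideal A) [z.IsPrime] (L : Type u) [CommRing L] [Algebra A L] [IsLocalization.AtPrime L z],
      IsDomain L ∧ L20.IntCover.HasRoots L) (q : ℕ) :
    Function.Bijective (EtCore.Hpull i (M p F (Spec.map (CommRingCat.ofHom (algebraMap R A)))) q) := by
  let t := Spec.map (CommRingCat.ofHom (algebraMap R A))
  let i₀ := Spec.map (CommRingCat.ofHom (residue R))
  haveI : IsIntegralHom t := by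
    rw [IsIntegralHom.SpecMap_iff]
    exact algebraMap_isIntegral_iff.mpr inferInstance
  haveI : IsClosedImmersion i₀ := IsClosedImmersion.spec_of_surjective _ IsLocalRing.residue_surjective
  let prA := pullback.fst p t
  let pA := pullback.snd p t
  let iZ := pullback.fst t i₀
  let π₀ := pullback.snd t i₀
  let e' := pullback.fst pA iZ
  let hY := pullback.snd pA iZ
  haveI := EtSite.preservesFiniteLimits_pull e'
  let FA := (EtCoh.pull prA).obj F
  have hmax : ∀ z : ↥(pullback t i₀), (iZ z).asIdeal.IsMaximal := fun z => by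
    have h1 : t (iZ z) = closedPoint R := by
      rw [← Scheme.Hom.comp_apply, pullback.condition, Scheme.Hom.comp_apply]
      refine (congrArg i₀ (Subsingleton.elim (π₀ z) (closedPoint (ResidueField R)))).trans ?_
      exact IsLocalRing.comap_closedPoint (residue R)
    refine Ideal.isMaximal_of_isIntegral_of_isMaximal_comap (R := R) (iZ z).asIdeal ?_
    have h2 : (iZ z).asIdeal.comap (algebraMap R A) = maximalIdeal R := congrArg PrimeSpectrum.asIdeal h1
    rw [h2]; exact maximalIdeal.isMaximal R
  have hclosed : ∀ z : ↥(pullback t i₀), IsClosed ({z} : Set ↥(pullback t i₀)) := fun z => by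
    have h1 := ((PrimeSpectrum.isClosed_singleton_iff_isMaximal (iZ z)).2 (hmax z)).preimage iZ.continuous
    exact (congrArg IsClosed (Set.ext fun w => ⟨fun h => iZ.isEmbedding.injective h, fun h => congrArg _ h⟩)).mp h1
  -- the base change over the cover is invertible point by point
  have inner : IsIso (EtBC.bcQ pA iZ hY e' pullback.condition q FA) := by
    refine StalkBC.isIso_of_pb _ fun z RX _ _ _ _ _ => ?_
    haveI : HenselianLocalRing RX :=
      Hensel.IsStrictHenselization.henselian (R := (pullback t i₀).presheaf.stalk z)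
    let x := iZ z
    let O := (Spec (CommRingCat.of A)).presheaf.stalk x
    letI : Algebra A O := (StructureSheaf.toStalk A x).hom.toAlgebra
    haveI : IsLocalization.AtPrime O x.asIdeal := StructureSheaf.IsLocalization.to_stalk A x
    haveI : x.asIdeal.IsMaximal := hmax z
    obtain ⟨hdom, hroots⟩ := hA x.asIdeal O
    haveI := hdom
    letI : Algebra R O := ((algebraMap A O).comp (algebraMap R A)).toAlgebra
    haveI : IsScalarTower R A O := IsScalarTower.of_algebraMap_eq fun _ => rfl
    haveI : Algebra.IsIntegral R O := Algebra.IsIntegral.of_surjective (IsScalarTower.toAlgHom R A O)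
      (surjective_atPrime R x.asIdeal)
    haveI : HenselianLocalRing O := L20.IntCover.henselianLocalRing hroots
    haveI : IsSepClosed (ResidueField O) := isSepClosed_residue R O
    haveI : IsLocalHom (algebraMap O O) := ⟨fun _ h => h⟩
    haveI hO : Hensel.IsStrictHenselization ((Spec (CommRingCat.of A)).presheaf.stalk (iZ.base z)) O :=
      Groth.L05.HensTensor.isStrictHenselization_self O
    obtain ⟨ψ, _, hψ⟩ := StalkBC.exists_strictMap iZ z O RX
    -- the strict localization of the closed fibre is a thickened point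
    let O' := (pullback t i₀).presheaf.stalk z
    have hsurj : Function.Surjective (iZ.stalkMap z).hom := iZ.stalkMap_surjective z
    haveI : HenselianLocalRing O' := by
      letI : Algebra O O' := (iZ.stalkMap z).hom.toAlgebra
      haveI : Algebra.IsIntegral O O' := Algebra.IsIntegral.of_surjective (Algebra.ofId O O') hsurj
      exact Groth.L05.henselianLocalRing_of_integral (A := O) O'
    haveI : IsSepClosed (ResidueField O') := by
      letI : Algebra O O' := (iZ.stalkMap z).hom.toAlgebra
      haveI : Algebra.IsIntegral O O' := Algebra.IsIntegral.of_surjective (Algebra.ofId O O') hsurj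
      exact isSepClosed_residue O O'
    haveI : IsLocalHom (algebraMap O' O') := ⟨fun _ h => h⟩
    haveI hO' : Hensel.IsStrictHenselization O' O' := Groth.L05.HensTensor.isStrictHenselization_self O'
    obtain ⟨ε⟩ := Groth.L05.HensTensor.exists_algEquiv_of_isStrictHenselization (R := O') (S := O') (S' := RX)
    have hε : Function.Surjective (algebraMap O' RX) := fun y =>
      ⟨ε.symm y, (congrArg (fun w => w) ((ε.commutes (ε.symm y)).symm.trans (ε.apply_symm_apply y)))⟩
    have hψs : Function.Surjective ψ := by
      have e1 : ψ.comp (algebraMap O O) = ψ := RingHom.comp_id ψ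
      rw [← e1, hψ]
      exact hε.comp hsurj
    have hone : ∀ P Q : Spec (CommRingCat.of RX), P = Q := by
      intro P Q
      have hs : ∀ P : Spec (CommRingCat.of O'), (pullback t i₀).fromSpecStalk z P = z := by
        intro P
        have hmem : (pullback t i₀).fromSpecStalk z P ⤳ z :=
          (Scheme.range_fromSpecStalk (X := pullback t i₀) (x := z)).le ⟨P, rfl⟩
        haveI : UniversallyClosed π₀ := inferInstance
        exact ((hclosed _).closure_eq.subset (specializes_iff_mem_closure.1 hmem) |>.symm)
      have hinj : Function.Injective (PrimeSpectrum.comap (algebraMap O' RX)) :=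
        PrimeSpectrum.comap_injective_of_surjective _ hε
      apply hinj
      apply ((pullback t i₀).fromSpecStalk z).isEmbedding.injective
      exact (hs _).trans (hs _).symm
    -- compare along the thickening
    let ηO := Hens2.specOf (Spec (CommRingCat.of A)) x O
    let ηX := Hens2.specOf (pullback t i₀) z RX
    let aS := pullback.fst pA ηO
    let bS := pullback.snd pA ηO
    let aX := pullback.fst pA (ηX ≫ iZ)
    let bX := pullback.snd pA (ηX ≫ iZ)
    have hηψ : Spec.map (CommRingCat.ofHom ψ) ≫ ηO = ηX ≫ iZ := StalkBC.specOf_comp iZ z O RX ψ hψ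
    let m : pullback pA (ηX ≫ iZ) ⟶ pullback pA ηO :=
      pullback.lift aX (bX ≫ Spec.map (CommRingCat.ofHom ψ))
        (pullback.condition.trans ((congrArg (bX ≫ ·) hηψ.symm).trans (Category.assoc _ _ _).symm))
    have hma : m ≫ aS = aX := pullback.lift_fst _ _ _
    have hmb : m ≫ bS = bX ≫ Spec.map (CommRingCat.ofHom ψ) := pullback.lift_snd _ _ _
    haveI := EtSite.preservesFiniteLimits_pull m
    refine (StalkBC.bijective_HpullVia_iff iZ pA hY e' (IsPullback.of_hasPullback pA iZ) FA q z O RX ψ hψ
      _ _ aS bS (IsPullback.of_hasPullback pA ηO) aX bX (IsPullback.of_hasPullback pA (ηX ≫ iZ)) m hma hmb).1 ?_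
    haveI := EtSite.preservesFiniteLimits_pull aX
    haveI := EtSite.preservesFiniteLimits_pull (m ≫ aS)
    refine (Function.Bijective.of_comp_iff' (ConcreteCategory.bijective_of_isIso ((EtCoh.HF _ q).map
      (((EtCore.pullComp m aS).symm ≪≫ EtCore.pullCongr hma).app FA).hom)) _).2 ?_
    let jr := Spec.map (CommRingCat.ofHom (residue RX))
    haveI : IsClosedImmersion jr := IsClosedImmersion.spec_of_surjective _ IsLocalRing.residue_surjective
    haveI : Surjective jr := ⟨fun P => ⟨closedPoint (ResidueField RX), hone _ _⟩⟩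
    let n := pullback.fst bX jr
    haveI : IsClosedImmersion n := inferInstance
    haveI := EtSite.preservesFiniteLimits_pull n
    haveI := EtSite.preservesFiniteLimits_pull (n ≫ m)
    have cm : IsPullback m bX bS (Spec.map (CommRingCat.ofHom ψ)) := by
      refine IsPullback.of_right (v₁₃ := pA) (h₁₂ := aS) (h₂₂ := ηO) ?_ hmb (IsPullback.of_hasPullback pA ηO)
      exact isPullback_congr hma.symm hηψ.symm (IsPullback.of_hasPullback pA (ηX ≫ iZ))
    have cnm : IsPullback (n ≫ m) (pullback.snd bX jr) bS
        (Spec.map (CommRingCat.ofHom ((residue RX).comp ψ))) := by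
      rw [CommRingCat.ofHom_comp, Spec.map_comp]
      exact (IsPullback.of_hasPullback bX jr).paste_horiz cm
    have hηO : ηO ≫ t = Spec.map (CommRingCat.ofHom (algebraMap R O)) := by
      show (Spec.map (CommRingCat.ofHom (algebraMap O O)) ≫ _) ≫ _ = _
      have e1 : Spec.map (CommRingCat.ofHom (algebraMap O O)) = 𝟙 (Spec O) := Spec.map_id O
      refine (congrArg (fun k => (k ≫ _) ≫ t) e1).trans ?_
      refine (congrArg (· ≫ t) (Category.id_comp _)).trans ?_
      rw [Spec.fromSpecStalk_eq']
      exact (Spec.map_comp _ _).symm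
    have cW : IsPullback (aS ≫ prA) bS p (Spec.map (CommRingCat.ofHom (algebraMap R O))) := by
      rw [← hηO]
      exact (IsPullback.of_hasPullback pA ηO).paste_horiz (IsPullback.of_hasPullback p t)
    have hj := hN O hroots (ResidueField RX) ((residue RX).comp ψ)
      (IsLocalRing.residue_surjective.comp hψs) _ _ (aS ≫ prA) bS cW (n ≫ m) _ cnm q
    have hj' : Function.Bijective (EtCore.Hpull (n ≫ m) ((EtCoh.pull aS).obj FA) q) :=
      bijective_Hpull_congr (n ≫ m) ((EtCore.pullComp aS prA).app F) q hj
    haveI : Surjective n := MorphismProperty.pullback_fst (P := @Surjective) _ _ inferInstance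
    haveI := isIso_gamma n m rfl ((EtCoh.pull aS).obj FA)
    have hn := bijective_Hpull_univHomeo n ((EtCoh.pull m).obj ((EtCoh.pull aS).obj FA)) q
    refine (Function.Bijective.of_comp_iff' hn _).1 ?_
    exact Eq.subst (motive := Function.Bijective) (funext fun v => (Hpull_comp n m rfl q _ v).symm)
      ((ConcreteCategory.bijective_of_isIso
        ((EtCoh.HF _ q).map (gamma n m rfl ((EtCoh.pull aS).obj FA)))).comp hj')
  -- descend to the closed fibre
  let π' : pullback pA iZ ⟶ Xs := cs.lift (e' ≫ prA) (hY ≫ π₀) (by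
    rw [Category.assoc, pullback.condition, ← Category.assoc, pullback.condition, Category.assoc,
      pullback.condition, ← Category.assoc])
  have hπi : π' ≫ i = e' ≫ prA := cs.lift_fst _ _ _
  have hπp : π' ≫ ps = hY ≫ π₀ := cs.lift_snd _ _ _
  have c' : IsPullback e' π' prA i := by
    refine IsPullback.of_bot (v₂₁ := ps) (v₂₂ := p) (h₃₁ := i₀) ?_ hπi.symm cs
    rw [hπp, show prA ≫ p = pA ≫ t from pullback.condition]
    exact (IsPullback.of_hasPullback pA iZ).paste_vert (IsPullback.of_hasPullback t i₀)
  have wout : e' ≫ pA ≫ t = (hY ≫ π₀) ≫ i₀ :=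
    ((IsPullback.of_hasPullback pA iZ).paste_vert (IsPullback.of_hasPullback t i₀)).w
  have outer := StalkBC.isIso_bcQ_integral_out t pA q i₀ iZ π₀ (IsPullback.of_hasPullback t i₀).flip hY e'
    pullback.condition wout FA inner
  haveI : IsIso (EtBC.bcQ p i₀ ps i cs.w q (M p F t)) :=
    StalkBC.isIso_bcQ_push i₀ p ps i prA π' e' c' cs.w
      (by rw [pullback.condition, hπp]; exact wout) q FA
      (isIso_bcQ_congr' i₀ e' pullback.condition.symm hπp.symm wout _ q FA outer)
  haveI : IsSepClosed (ResidueField (ResidueField R)) :=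
    haveI : Algebra.IsIntegral R (ResidueField R) :=
      Algebra.IsIntegral.of_surjective (Algebra.ofId R _) IsLocalRing.residue_surjective
    isSepClosed_residue R (ResidueField R)
  exact (StalkBC.bijective_bcHom_iff (residue R) p ps i cs.w (M p F t) q).2 (StalkBC.pb_of_isIso _)

include cs in
/-- Restriction to the closed fibre is bijective. -/
theorem bijective_closedFibre (hN : DomainHyp p F) (q : ℕ) : Function.Bijective (EtCore.Hpull i F q) := by
  refine bijective_of_cover_self i p F (fun T t _ => ?_) q
  haveI : IsAffine T := isAffine_of_isAffineHom t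
  let t' := T.isoSpec.inv ≫ t
  let φ := Spec.preimage t'
  letI : Algebra R Γ(T, ⊤) := φ.hom.toAlgebra
  haveI : Algebra.IsIntegral R Γ(T, ⊤) := by
    haveI : IsIntegralHom (Spec.map φ) := by rw [Spec.map_preimage]; infer_instance
    exact algebraMap_isIntegral_iff.mp (IsIntegralHom.SpecMap_iff.1 this)
  let A := Cov Γ(T, ⊤)
  let g : Spec (CommRingCat.of A) ⟶ Spec (CommRingCat.of Γ(T, ⊤)) :=
    Spec.map (CommRingCat.ofHom (algebraMap Γ(T, ⊤) A))
  haveI : IsIntegralHom g := by
    rw [IsIntegralHom.SpecMap_iff]
    exact algebraMap_isIntegral_iff.mpr inferInstance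
  haveI : Surjective g := ⟨comap_surjective_cov Γ(T, ⊤)⟩
  refine ⟨Spec (CommRingCat.of A), g ≫ T.isoSpec.inv, inferInstance, inferInstance, fun q => ?_⟩
  haveI : Algebra.IsIntegral R A := Algebra.IsIntegral.trans Γ(T, ⊤)
  have ht : Spec.map (CommRingCat.ofHom (algebraMap R A)) = (g ≫ T.isoSpec.inv) ≫ t := by
    rw [Category.assoc, show T.isoSpec.inv ≫ t = Spec.map φ from (Spec.map_preimage t').symm, ← Spec.map_comp]
    rfl
  exact ht ▸ bijective_M_cover p F i ps cs hN A (fun z _ L _ _ _ => isDomain_hasRoots_cov Γ(T, ⊤) z L) q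

end Groth.L27.FinBC
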