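import Groth.Agent.L20.IntCover.Ring
import Groth.Agent.L05.Hensel.IntegralDomain
import Groth.Agent.L05.Hensel.Criteria
import Groth.Agent.L28.AcyComp.Iso
import Groth.Agent.L27.HenselClosed.Main
import Groth.Agent.L27.EtSite.Push
import Mathlib.RingTheory.Artinian.Module
import Mathlib.FieldTheory.IsAlgClosed.AlgebraicClosure

/-! # Local rings of integral algebras over henselian rings -/

universe u

open CategoryTheory CategoryTheory.Limits AlgebraicGeometry Opposite IsLocalRing

set_option backward.isDefEq.respectTransparency.types false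
set_option linter.style.haveILetI false
set_option linter.unusedSectionVars false

noncomputable section

namespace Groth.L27.FinBC

/-- Pullback on cohomology along a universal homeomorphism is bijective. -/
theorem bijective_Hpull_univHomeo {Y X : Scheme.{u}} (π : Y ⟶ X) [IsIntegralHom π] [UniversallyInjective π]
    [Surjective π] [PreservesFiniteLimits (EtCoh.pull π)] (G : EtCoh.Ab X) (q : ℕ) :
    Function.Bijective (EtCore.Hpull π G q) := by
  let η := (EtCoh.pullPushAdj π).unit.app G
  haveI := EtSite.isIso_counit π (EtSite.propA_of_isIntegralHom π) ((EtCoh.pull π).obj G)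
  haveI : IsIso ((EtCoh.pull π).map η) :=
    (IsIso.eq_inv_of_inv_hom_id ((EtCoh.pullPushAdj π).left_triangle_components G)) ▸ inferInstance
  haveI : Mono η := HenselClosed.mono_unit π G
  haveI : Epi η := (Sheaf.isLocallySurjective_iff_epi' (φ := η)).1
    (EtSite.isLocallySurjective_of_some_stalks _ fun x => by
      obtain ⟨y, rfl⟩ := π.surjective x
      obtain ⟨Ω, _, _, ξ, rfl⟩ := EtSite.exists_geometric_point y
      refine ⟨Ω, inferInstance, inferInstance, ξ ≫ π, rfl, ?_⟩
      haveI : IsIso ((EtCoh.stalk (ξ ≫ π)).map η) :=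
        (NatIso.isIso_map_iff (EtSite.stalkPullIso π ξ) η).1
          (inferInstanceAs (IsIso ((EtCoh.stalk ξ).map ((EtCoh.pull π).map η))))
      exact (ConcreteCategory.bijective_of_isIso ((EtCoh.stalk (ξ ≫ π)).map η)).2)
  haveI : IsIso η := isIso_of_mono_of_epi η
  exact EtSite.bijective_Hpull π G
    (fun p hp => EtSite.isZero_Rpush_of_propB π (EtSite.propB_of_isIntegralHom π) _ p hp) q

section Integral

variable (R : Type u) [CommRing R] [HenselianLocalRing R] {A : Type u} [CommRing A] [Algebra R A]
  [Algebra.IsIntegral R A]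
include R

/-- An element outside a maximal ideal is invertible on an idempotent neighbourhood. -/
theorem exists_idem_inverse (z : Ideal A) [z.IsMaximal] (a : A) (ha : a ∉ z) :
    ∃ e b : A, IsIdempotentElem e ∧ e ∉ z ∧ a * b * e = e := by
  let C := Algebra.adjoin R ({a} : Set A)
  haveI : Module.Finite R C :=
    ⟨(Submodule.fg_top _).mpr (Algebra.IsIntegral.isIntegral a).fg_adjoin_singleton⟩
  let aC : C := ⟨a, Algebra.subset_adjoin rfl⟩
  let J : Ideal C := (maximalIdeal R).map (algebraMap R C)
  let k := R ⧸ maximalIdeal R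
  letI : Field k := Ideal.Quotient.field (maximalIdeal R)
  haveI : Module.Finite k (C ⧸ J) :=
    Module.Finite.of_restrictScalars_finite R k (C ⧸ J)
  haveI : IsArtinianRing (C ⧸ J) := IsArtinianRing.of_finite k (C ⧸ J)
  obtain ⟨n, c, hc⟩ := IsArtinian.exists_pow_succ_smul_dvd (Ideal.Quotient.mk J aC) (1 : C ⧸ J)
  obtain ⟨c, rfl⟩ := Ideal.Quotient.mk_surjective c
  let v : C := (aC * c) ^ (n + 1)
  have h1 : ∀ m, Ideal.Quotient.mk J (aC ^ n) = Ideal.Quotient.mk J (aC ^ n) * Ideal.Quotient.mk J (aC * c) ^ m := by
    intro m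
    induction m with
    | zero => rw [pow_zero, mul_one]
    | succ m ihm =>
      rw [pow_succ, ← mul_assoc, ← ihm]
      simp only [smul_eq_mul, mul_one, Nat.succ_eq_add_one] at hc
      rw [map_mul, ← mul_assoc, map_pow, ← pow_succ]
      exact hc.symm
  have hv : v * v - v ∈ J := by
    rw [← Ideal.Quotient.eq]
    have := congrArg (fun w => Ideal.Quotient.mk J (aC * c ^ (n + 1)) * w) (h1 (n + 1))
    simp only [v, map_mul, map_pow] at this ⊢
    linear_combination -this
  obtain ⟨e, he, hev⟩ := Groth.L05.exists_idem_lift_of_finite (maximalIdeal R) v hv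
  let zC : Ideal C := z.comap (C.val : C →+* A)
  haveI : zC.IsPrime := Ideal.comap_isPrime _ z
  have hJ : ∀ M : Ideal C, M.IsMaximal → J ≤ M := fun M _ => by
    haveI := Ideal.isMaximal_comap_of_isIntegral_of_isMaximal (R := R) M
    exact Ideal.map_le_iff_le_comap.2 (IsLocalRing.eq_maximalIdeal this).ge
  have hzJ : J ≤ zC := by
    haveI := Ideal.isMaximal_comap_of_isIntegral_of_isMaximal (R := R) z
    rw [Ideal.map_le_iff_le_comap, Ideal.comap_comap]
    exact (IsLocalRing.eq_maximalIdeal this).ge
  have haz : aC ∉ zC := ha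
  have hez : e ∉ zC := by
    intro h
    have hvz : v ∈ zC := by
      have := sub_mem h (hzJ hev)
      rwa [sub_sub_cancel] at this
    have hacz : aC * c ∈ zC := (inferInstance : zC.IsPrime).mem_of_pow_mem _ hvz
    have h2 : aC ^ n - aC ^ n * (aC * c) ∈ J := by
      rw [← Ideal.Quotient.eq]
      simpa [map_mul] using h1 1
    have h3 : aC ^ n ∈ zC := by
      have := add_mem (hzJ h2) (zC.mul_mem_left (aC ^ n) hacz)
      rwa [sub_add_cancel] at this
    exact haz ((inferInstance : zC.IsPrime).mem_of_pow_mem _ h3)
  have htop : Ideal.span {aC} ⊔ Ideal.span {1 - e} = ⊤ := by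
    by_contra hne
    obtain ⟨M, hM, hle⟩ := Ideal.exists_le_maximal _ hne
    have haM : aC ∈ M := hle (Ideal.mem_sup_left (Ideal.mem_span_singleton_self _))
    have heM : e ∈ M := by
      have hvM : v ∈ M := by
        rw [show v = aC * (c * (aC * c) ^ n) from by simp only [v, pow_succ]; ring]
        exact M.mul_mem_right _ haM
      have := add_mem (hJ M hM hev) hvM
      rwa [sub_add_cancel] at this
    exact hM.ne_top ((Ideal.eq_top_iff_one _).2 (by
      simpa using add_mem (hle (Ideal.mem_sup_right (Ideal.mem_span_singleton_self (1 - e)))) heM))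
  obtain ⟨x, hx, y, hy, hxy⟩ := Submodule.mem_sup.1 ((Ideal.eq_top_iff_one _).1 htop)
  obtain ⟨b, rfl⟩ := Ideal.mem_span_singleton'.1 hx
  obtain ⟨t, rfl⟩ := Ideal.mem_span_singleton'.1 hy
  refine ⟨(e : A), (b : A), he.map C.val, hez, ?_⟩
  have : aC * b * e = e := by linear_combination e * hxy + t * (he.eq)
  exact congrArg Subtype.val this

/-- Local rings at maximal ideals are quotients. -/
theorem surjective_atPrime (z : Ideal A) [z.IsMaximal] {L : Type u} [CommRing L] [Algebra A L]
    [IsLocalization.AtPrime L z] : Function.Surjective (algebraMap A L) := by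
  intro x
  obtain ⟨⟨a, s⟩, h⟩ := IsLocalization.surj z.primeCompl x
  obtain ⟨e, b, he, hez, hb⟩ := exists_idem_inverse (R := R) z s.1 s.2
  have h1 : algebraMap A L e = 1 := by
    have hu : IsUnit (algebraMap A L e) := IsLocalization.map_units L (⟨e, hez⟩ : z.primeCompl)
    refine hu.mul_left_cancel ?_
    rw [← map_mul, he.eq, mul_one]
  have hb' : algebraMap A L s.1 * algebraMap A L b = 1 := by
    have := congrArg (algebraMap A L) hb
    rwa [map_mul, map_mul, h1, mul_one] at this
  refine ⟨a * b, ?_⟩
  rw [map_mul, ← h, mul_assoc, hb', mul_one]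

end Integral

section Local

variable (R : Type u) [CommRing R] [HenselianLocalRing R] [IsSepClosed (ResidueField R)]
  (N : Type u) [CommRing N] [IsLocalRing N] [Algebra R N] [Algebra.IsIntegral R N]

include R in
theorem isLocalHom_of_integral : IsLocalHom (algebraMap R N) := by
  refine (((IsLocalRing.local_hom_TFAE (algebraMap R N)).out 0 4).2 ?_)
  exact IsLocalRing.eq_maximalIdeal (Ideal.isMaximal_comap_of_isIntegral_of_isMaximal (R := R) (maximalIdeal N))

include R in
theorem isSepClosed_residue : IsSepClosed (ResidueField N) := by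
  haveI := isLocalHom_of_integral R N
  haveI : Algebra.IsAlgebraic (ResidueField R) (ResidueField N) := by
    haveI : Algebra.IsIntegral (ResidueField R) (ResidueField N) := by
      refine ⟨fun x => ?_⟩
      obtain ⟨y, rfl⟩ := IsLocalRing.residue_surjective x
      exact ((Algebra.IsIntegral.isIntegral (R := R) y).map (IsScalarTower.toAlgHom R N (ResidueField N))).tower_top
    infer_instance
  exact Groth.L05.isSepClosed_of_algebraic (ResidueField R) (ResidueField N)

/-- A local domain with roots is the integral closure in a separably closed field. -/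
theorem exists_ringEquiv_integralClosure [IsDomain N] (hN : L20.IntCover.HasRoots N) :
    ∃ (Ω : Type u) (_ : Field Ω) (_ : IsSepClosed Ω) (_ : Algebra R Ω) (e : N ≃+* integralClosure R Ω),
      (e : N →+* integralClosure R Ω).comp (algebraMap R N) = algebraMap R (integralClosure R Ω) := by
  let Ω := FractionRing N
  haveI : IsAlgClosed Ω := IsAlgClosed.of_exists_root _ fun p hp hirr =>
    L20.IntCover.hasRoots_localization hN (nonZeroDivisors N) (L := Ω) p hp hirr.natDegree_pos
  refine ⟨Ω, inferInstance, inferInstance, inferInstance, ?_⟩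
  let φ : N →+* integralClosure R Ω := (algebraMap N Ω).codRestrict (integralClosure R Ω).toSubring
    fun x => (Algebra.IsIntegral.isIntegral (R := R) x).map (IsScalarTower.toAlgHom R N Ω)
  have hφ : Function.Bijective φ := by
    refine ⟨fun x y h => IsFractionRing.injective N Ω (congrArg Subtype.val h), fun x => ?_⟩
    let D := Algebra.adjoin N ({(x : Ω)} : Set Ω)
    haveI : Algebra.IsIntegral N D :=
      Algebra.IsIntegral.adjoin (fun y hy => by
        rw [Set.mem_singleton_iff.1 hy]
        exact (x.2 : IsIntegral R (x : Ω)).tower_top)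
    obtain ⟨y, hy⟩ := L20.IntCover.surjective_algebraMap hN (D := D) ⟨x, Algebra.subset_adjoin rfl⟩
    exact ⟨y, Subtype.ext (congrArg Subtype.val hy :)⟩
  refine ⟨RingEquiv.ofBijective φ hφ, RingHom.ext fun r => Subtype.ext ?_⟩
  exact (IsScalarTower.algebraMap_apply R N Ω r).symm

end Local

section Cover

variable (B : Type u) [CommRing B]

/-- The product of the geometric points. -/
abbrev GeomProd : Type u := Π P : PrimeSpectrum B, AlgebraicClosure P.asIdeal.ResidueField

/-- The absolutely integrally closed integral cover. -/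
abbrev Cov : Type u := integralClosure B (GeomProd B)

theorem comap_surjective_cov : Function.Surjective (PrimeSpectrum.comap (algebraMap B (Cov B))) := by
  intro P
  let ev : Cov B →+* AlgebraicClosure P.asIdeal.ResidueField :=
    (Pi.evalRingHom _ P).comp (integralClosure B (GeomProd B)).val.toRingHom
  refine ⟨⟨RingHom.ker ev, RingHom.ker_isPrime ev⟩, PrimeSpectrum.ext ?_⟩
  ext b
  show algebraMap B (AlgebraicClosure P.asIdeal.ResidueField) b = 0 ↔ b ∈ P.asIdeal
  rw [IsScalarTower.algebraMap_apply B P.asIdeal.ResidueField, map_eq_zero_iff _ (RingHom.injective _)]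
  exact Ideal.algebraMap_residueField_eq_zero

theorem isIntegral_cov : Algebra.IsIntegral B (Cov B) := inferInstance

theorem isDomain_hasRoots_cov (z : Ideal (Cov B)) [z.IsPrime] (L : Type u) [CommRing L] [Algebra (Cov B) L]
    [IsLocalization.AtPrime L z] : IsDomain L ∧ L20.IntCover.HasRoots L := by
  haveI := L20.IntCover.isDomain_localization z
  exact ⟨(IsLocalization.algEquiv z.primeCompl L (Localization.AtPrime z)).toRingEquiv.toMulEquiv.isDomain _,
    L20.IntCover.hasRoots_localization L20.IntCover.hasRoots_closure z.primeCompl⟩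

end Cover

end Groth.L27.FinBC
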