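import Groth.Agent.L27.FinBC.Local
import Groth.Agent.L27.StalkBC.Criterion
import Mathlib.AlgebraicGeometry.Morphisms.Integral

/-! # Strict localizations along integral morphisms -/

universe u

open CategoryTheory CategoryTheory.Limits AlgebraicGeometry Opposite IsLocalRing

set_option backward.isDefEq.respectTransparency.types false
set_option linter.style.haveILetI false
set_option linter.unusedSectionVars false

noncomputable section

namespace Groth.L27.FinBC

theorem isIntegral_of_strictHenselization {RS O RX : Type u} [CommRing RS] [HenselianLocalRing RS]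
    [IsSepClosed (ResidueField RS)] [CommRing O] [IsLocalRing O] [CommRing RX] [IsLocalRing RX]
    [Algebra O RX] [IsLocalHom (algebraMap O RX)] [Hensel.IsStrictHenselization O RX] [Algebra RS RX]
    [IsLocalHom (algebraMap RS RX)]
    (hgen : ∀ o : O, ∃ b s : O, IsUnit s ∧ o * s = b ∧ IsIntegral RS (algebraMap O RX b) ∧
      IsIntegral RS (algebraMap O RX s)) :
    Algebra.IsIntegral RS RX := by
  haveI : HenselianLocalRing RX := Hensel.IsStrictHenselization.henselian (R := O)
  let C := integralClosure RS RX
  let zC : Ideal C := (maximalIdeal RX).comap (C.val : C →+* RX)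
  haveI : zC.IsPrime := Ideal.comap_isPrime _ _
  haveI : zC.IsMaximal := by
    refine Ideal.isMaximal_of_isIntegral_of_isMaximal_comap (R := RS) zC ?_
    have : zC.comap (algebraMap RS C) = maximalIdeal RS := by
      rw [Ideal.comap_comap]
      exact ((IsLocalRing.local_hom_TFAE (algebraMap RS RX)).out 0 4).1 ‹IsLocalHom (algebraMap RS RX)›
    rw [this]; exact maximalIdeal.isMaximal RS
  have hunit : ∀ a : C, IsUnit (a : RX) → IsUnit a := by
    intro a ha
    have haz : a ∉ zC := fun h => (IsLocalRing.mem_maximalIdeal _).1 h ha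
    obtain ⟨e, b, he, hez, hb⟩ := exists_idem_inverse RS zC a haz
    have he' : (e : RX) * e = e := congrArg Subtype.val he.eq
    have heu : IsUnit (e : RX) := IsLocalRing.notMem_maximalIdeal.1 hez
    have he1 : e = 1 := Subtype.ext (heu.mul_left_cancel (he'.trans (mul_one _).symm))
    rw [he1, mul_one] at hb
    exact IsUnit.of_mul_eq_one b hb

  haveI : IsLocalRing C := IsLocalRing.of_isUnit_or_isUnit_one_sub_self fun a =>
    (IsLocalRing.isUnit_or_isUnit_one_sub_self (a : RX)).imp (hunit a) fun h => hunit (1 - a) h
  have hmem : ∀ o : O, algebraMap O RX o ∈ C := by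
    intro o
    obtain ⟨b, s, hs, rfl, hb, hs'⟩ := hgen o
    obtain ⟨t, ht⟩ := (hunit ⟨_, hs'⟩ (hs.map (algebraMap O RX))).exists_right_inv
    have : algebraMap O RX o = algebraMap O RX (o * s) * (t : RX) := by
      rw [map_mul, mul_assoc, show algebraMap O RX s * (t : RX) = 1 from congrArg Subtype.val ht, mul_one]
    rw [this]
    exact hb.mul t.2
  letI : Algebra O C := ((algebraMap O RX).codRestrict C.toSubring hmem).toAlgebra
  haveI : IsLocalHom (algebraMap O C) := ⟨fun o ho => (isUnit_map_iff (algebraMap O RX) o).1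
    (ho.map (C.val : C →+* RX))⟩
  haveI : HenselianLocalRing C := Groth.L05.henselianLocalRing_of_integral (A := RS) C
  haveI : IsSepClosed (ResidueField C) := isSepClosed_residue RS C
  haveI hloc : IsLocalHom (C.val : C →+* RX) := ⟨hunit⟩
  let ι : ResidueField C →+* ResidueField RX := ResidueField.map (C.val : C →+* RX)
  haveI hc : IsSepClosure (ResidueField O) (ResidueField RX) := Hensel.IsStrictHenselization.isSepClosure
  haveI := hc.separable
  have hι : Function.Surjective ι := by
    letI : Algebra (ResidueField C) (ResidueField RX) := ι.toAlgebra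
    haveI : IsScalarTower (ResidueField O) (ResidueField C) (ResidueField RX) :=
      IsScalarTower.of_algebraMap_eq fun x => by
        obtain ⟨o, rfl⟩ := IsLocalRing.residue_surjective x
        rfl
    haveI : Algebra.IsSeparable (ResidueField C) (ResidueField RX) :=
      Algebra.isSeparable_tower_top_of_isSeparable (ResidueField O) (ResidueField C) (ResidueField RX)
    exact IsSepClosed.algebraMap_surjective (ResidueField C) (ResidueField RX)
  let τ := (RingEquiv.ofBijective ι ⟨ι.injective, hι⟩).symm.toRingHom
  have hτι : ∀ x, ι (τ x) = x := fun x => (RingEquiv.ofBijective ι ⟨ι.injective, hι⟩).apply_symm_apply x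
  have hτ : τ.comp (ResidueField.map (algebraMap O RX)) = ResidueField.map (algebraMap O C) := by
    refine RingHom.ext fun x => ι.injective ((hτι _).trans ?_)
    obtain ⟨o, rfl⟩ := IsLocalRing.residue_surjective x
    rfl
  obtain ⟨g, ⟨hg, hgr⟩, -⟩ := Hensel.IsStrictHenselization.universal (R := O) (S := RX) C (algebraMap O C) τ hτ
  have hid : (C.val : C →+* RX).comp g = RingHom.id RX := by
    refine (Hensel.IsStrictHenselization.universal (R := O) (S := RX) RX (algebraMap O RX) (RingHom.id _)
      (RingHom.id_comp _)).unique ⟨?_, fun x => ?_⟩ ⟨RingHom.id_comp _, fun x => rfl⟩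
    · rw [RingHom.comp_assoc, hg]; rfl
    · show residue RX ((g x : C) : RX) = _
      have : residue RX ((g x : C) : RX) = ι (residue C (g x)) := rfl
      rw [this, hgr, hτι]; rfl
  refine ⟨fun x => ?_⟩
  have hx : ((g x : C) : RX) = x := RingHom.congr_fun hid x
  have := (g x).2
  rwa [hx] at this

/-- The map of strict localizations along an integral morphism is integral. -/
theorem isIntegral_strictMap {X S : Scheme.{u}} (g : X ⟶ S) [IsIntegralHom g] (x : X)
    (RS : Type u) [CommRing RS] [IsLocalRing RS] [Algebra (S.presheaf.stalk (g.base x)) RS]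
    [IsLocalHom (algebraMap (S.presheaf.stalk (g.base x)) RS)]
    [Hensel.IsStrictHenselization (S.presheaf.stalk (g.base x)) RS]
    (RX : Type u) [CommRing RX] [IsLocalRing RX] [Algebra (X.presheaf.stalk x) RX]
    [IsLocalHom (algebraMap (X.presheaf.stalk x) RX)] [Hensel.IsStrictHenselization (X.presheaf.stalk x) RX]
    (ψ : RS →+* RX) [IsLocalHom ψ]
    (hψ : ψ.comp (algebraMap (S.presheaf.stalk (g.base x)) RS) =
      (algebraMap (X.presheaf.stalk x) RX).comp (g.stalkMap x).hom) :
    ψ.IsIntegral := by
  letI : Algebra RS RX := ψ.toAlgebra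
  haveI : IsLocalHom (algebraMap RS RX) := inferInstanceAs (IsLocalHom ψ)
  haveI : HenselianLocalRing RS := Hensel.IsStrictHenselization.henselian (R := S.presheaf.stalk (g.base x))
  haveI : IsSepClosed (ResidueField RS) :=
    (Hensel.IsStrictHenselization.isSepClosure (R := S.presheaf.stalk (g.base x)) (S := RS)).sep_closed
  obtain ⟨_, ⟨V, hV, rfl⟩, hxV, -⟩ :=
    S.isBasis_affineOpens.exists_subset_of_mem_open (Set.mem_univ (g x)) isOpen_univ
  let U := g ⁻¹ᵁ V
  have hU : IsAffineOpen U := hV.preimage g
  have happ : (g.app V).hom.IsIntegral := IsIntegralHom.isIntegral_app g V hV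
  letI : Algebra Γ(X, U) (X.presheaf.stalk x) := (X.presheaf.germ U x hxV).hom.toAlgebra
  haveI : IsLocalization.AtPrime (X.presheaf.stalk x) (hU.primeIdealOf ⟨x, hxV⟩).asIdeal :=
    hU.isLocalization_stalk ⟨x, hxV⟩
  have hint : ∀ b : Γ(X, U), IsIntegral RS (algebraMap (X.presheaf.stalk x) RX (X.presheaf.germ U x hxV b)) := by
    intro b
    obtain ⟨P, hP, hPb⟩ := happ b
    refine ⟨P.map ((algebraMap (S.presheaf.stalk (g.base x)) RS).comp (S.presheaf.germ V (g x) hxV).hom),
      hP.map _, ?_⟩
    let μ : Γ(X, U) →+* RX := (algebraMap (X.presheaf.stalk x) RX).comp (X.presheaf.germ U x hxV).hom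
    have e : ψ.comp ((algebraMap (S.presheaf.stalk (g.base x)) RS).comp (S.presheaf.germ V (g x) hxV).hom) =
        μ.comp (g.app V).hom := by
      refine RingHom.ext fun a => ?_
      refine (RingHom.congr_fun hψ _).trans (congrArg (algebraMap (X.presheaf.stalk x) RX) ?_)
      exact Scheme.Hom.germ_stalkMap_apply g V x hxV a
    rw [Polynomial.eval₂_map, show algebraMap RS RX = ψ from rfl, e]
    have := congrArg μ hPb
    rw [Polynomial.hom_eval₂, map_zero] at this
    exact this
  refine algebraMap_isIntegral_iff.mpr (isIntegral_of_strictHenselization (O := X.presheaf.stalk x) fun o => ?_)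
  obtain ⟨⟨b, s⟩, h⟩ := IsLocalization.surj (hU.primeIdealOf ⟨x, hxV⟩).asIdeal.primeCompl o
  exact ⟨_, _, IsLocalization.map_units (X.presheaf.stalk x) s, h, hint b, hint s.1⟩

end Groth.L27.FinBC
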