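import Groth.Agent.L27.FinBC.Good
import Groth.Agent.L27.FinBC.StrictInt
import Groth.Agent.L27.AffineEfface.SepPoint
import Groth.Agent.L27.StalkBC.Via
import Groth.Agent.L05.CurveNorm.Scheme
import Groth.Agent.L10.EtBCComp.VComp

/-! # Finite base change from restriction to closed fibres over normalised strict localizations -/

universe u

open CategoryTheory CategoryTheory.Limits AlgebraicGeometry Opposite IsLocalRing

set_option backward.isDefEq.respectTransparency.types false
set_option linter.style.haveILetI false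
set_option linter.unusedSectionVars false

noncomputable section

namespace Groth.L27.FinBC

open Groth.L27.LimCoh Groth.L27.LimBC

/-- Bijectivity of restriction transported along isomorphic squares. -/
theorem bijective_Hpull_transport {W' W V' V Z : Scheme.{u}} {a' : W' ⟶ Z} {a : W ⟶ Z} {j' : V' ⟶ W'} {j : V ⟶ W}
    (u : W' ⟶ W) [IsIso u] (v : V' ⟶ V) [IsIso v] (hua : u ≫ a = a') (hw : v ≫ j = j' ≫ u)
    [PreservesFiniteLimits (EtCoh.pull j)] [PreservesFiniteLimits (EtCoh.pull j')] (G : EtCoh.Ab Z) (q : ℕ)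
    (h : Function.Bijective (EtCore.Hpull j ((EtCoh.pull a).obj G) q)) :
    Function.Bijective (EtCore.Hpull j' ((EtCoh.pull a').obj G) q) := by
  haveI := EtSite.preservesFiniteLimits_pull (j' ≫ u)
  haveI := EtSite.preservesFiniteLimits_pull u
  let G' := (EtCoh.pull a).obj G
  have h1 := bijective_Hpull_iso_comp v j hw G' q h
  haveI := isIso_gamma j' u rfl G'
  have h2 : Function.Bijective (EtCore.Hpull j' _ q ∘ EtCore.Hpull u G' q) :=
    Eq.subst (motive := Function.Bijective) (funext fun e => (Hpull_comp j' u rfl q G' e).symm)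
      ((ConcreteCategory.bijective_of_isIso ((EtCoh.HF V' q).map (gamma j' u rfl G'))).comp h1)
  have h3 := (Function.Bijective.of_comp_iff _ (L28.AcyComp.bijective_Hpull u G' q)).1 h2
  exact bijective_Hpull_congr j' (((EtCore.pullComp u a).symm ≪≫ EtCore.pullCongr hua).app G) q h3

theorem isSepClosed_residueField_spec (K : Type u) [Field K] [IsSepClosed K] (s : Spec (CommRingCat.of K)) :
    IsSepClosed ((Spec (CommRingCat.of K)).residueField s) := by
  let X := Spec (CommRingCat.of K)
  let d := X.descResidueField (Scheme.stalkClosedPointTo (𝟙 X))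
  have hs : (𝟙 X : X ⟶ X) (closedPoint K) = s := Subsingleton.elim (α := PrimeSpectrum K) _ _
  have hsurj : Function.Surjective d.hom := by
    intro a
    have e : Spec.map d ≫ X.fromSpecResidueField _ = 𝟙 X :=
      Scheme.descResidueField_stalkClosedPointTo_fromSpecResidueField K X (𝟙 X)
    obtain ⟨φ, hφ⟩ := Spec.map_surjective (X.fromSpecResidueField ((𝟙 X : X ⟶ X) (closedPoint K)))
    have e2 : Spec.map (φ ≫ d) = Spec.map (𝟙 (CommRingCat.of K)) :=
      (Spec.map_comp φ d).trans ((congrArg (Spec.map d ≫ ·) hφ).trans (e.trans (Spec.map_id _).symm))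
    exact ⟨φ a, congr($(Spec.map_injective e2) a)⟩
  rw [← hs]
  exact Groth.L27.StrictCover.isSepClosed_of_ringEquiv (RingEquiv.ofBijective d.hom ⟨d.hom.injective, hsurj⟩).symm

theorem pb_of_isIso_residue (R : Type u) [CommRing R] [HenselianLocalRing R] [IsSepClosed (ResidueField R)]
    [IsSepClosed (ResidueField (ResidueField R))] {M N : EtCoh.Ab (Spec (CommRingCat.of R))} (φ : M ⟶ N)
    [IsIso ((EtCoh.pull (Spec.map (CommRingCat.ofHom (residue R)))).map φ)] : StalkBC.PB φ := by
  have hM := StalkBC.bijective_pullHom (residue R) M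
  have hN := StalkBC.bijective_pullHom (residue R) N
  refine (Function.Bijective.of_comp_iff' hN _).1 ?_
  refine Eq.subst (motive := Function.Bijective) (funext fun a => ?_)
    ((StalkBC.pb_of_isIso ((EtCoh.pull (Spec.map (CommRingCat.ofHom (residue R)))).map φ)).comp hM)
  exact (Category.assoc _ _ _).trans (congrArg (_ ≫ ·) (Functor.map_comp _ a φ).symm)

section Point

variable {X S : Scheme.{u}} (f : X ⟶ S) [QuasiCompact f] [QuasiSeparated f] (F : EtCoh.Ab X) (s : S)
  (R : Type u) [CommRing R] [IsLocalRing R] [Algebra (S.presheaf.stalk s) R]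
  [IsLocalHom (algebraMap (S.presheaf.stalk s) R)] [Hensel.IsStrictHenselization (S.presheaf.stalk s) R]

/-- The hypothesis on normalisations over a strict localization. -/
abbrev SpecHyp : Prop :=
  DomainHyp (pullback.snd f (Hens2.specOf S s R)) ((EtCoh.pull (pullback.fst f (Hens2.specOf S s R))).obj F)

omit [QuasiCompact f] [QuasiSeparated f] in
/-- Bijectivity at normalisations gives the hypothesis on absolutely integrally closed domains. -/
theorem specHyp_of_bijective (q₀ : ∀ (Ω : Type u) [Field Ω] [IsSepClosed Ω] [Algebra R Ω]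
      (s' : ↥(Spec (CommRingCat.of ↥(integralClosure R Ω))))
      (_ : (Spec.map (CommRingCat.ofHom (algebraMap R ↥(integralClosure R Ω)))).base s' = IsLocalRing.closedPoint R)
      [PreservesFiniteLimits (EtCoh.pull (pullback.fst (pullback.snd f (Spec.map (CommRingCat.ofHom (algebraMap R ↥(integralClosure R Ω))) ≫ Hens2.specOf S s R)) ((Spec (CommRingCat.of ↥(integralClosure R Ω))).fromSpecResidueField s')))] (q : ℕ),
      Function.Bijective (EtCore.Hpull (pullback.fst (pullback.snd f (Spec.map (CommRingCat.ofHom (algebraMap R ↥(integralClosure R Ω))) ≫ Hens2.specOf S s R)) ((Spec (CommRingCat.of ↥(integralClosure R Ω))).fromSpecResidueField s'))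
        ((EtCoh.pull (pullback.fst f (Spec.map (CommRingCat.ofHom (algebraMap R ↥(integralClosure R Ω))) ≫ Hens2.specOf S s R))).obj F) q)) :
    SpecHyp f F s R := by
  intro N _ _ _ _ _ hroots K _ r hr W V a bW cW j bV cV _ q
  haveI : HenselianLocalRing R := Hensel.IsStrictHenselization.henselian (R := S.presheaf.stalk s)
  haveI : IsSepClosed (ResidueField R) :=
    (Hensel.IsStrictHenselization.isSepClosure (R := S.presheaf.stalk s) (S := R)).sep_closed
  obtain ⟨Ω, _, _, _, e, he⟩ := exists_ringEquiv_integralClosure R N hroots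
  let η := Hens2.specOf S s R
  let IC := integralClosure R Ω
  let tI := Spec.map (CommRingCat.ofHom (algebraMap R IC))
  let E := Spec.map (CommRingCat.ofHom (e : N →+* IC))
  haveI : IsIso E := by
    haveI : IsIso (CommRingCat.ofHom (e : N →+* IC)) := e.toCommRingCatIso.isIso_hom
    infer_instance
  have hEt : E ≫ Spec.map (CommRingCat.ofHom (algebraMap R N)) = tI := by
    rw [← Spec.map_comp, ← CommRingCat.ofHom_comp, he]
  -- the point of the normalisation
  let ρ := r.comp (e.symm : IC →+* N)
  let pt := Spec.map (CommRingCat.ofHom ρ)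
  let s' := pt (closedPoint K)
  have hρ : Function.Surjective ρ := hr.comp e.symm.surjective
  have hs' : tI.base s' = closedPoint R := by
    haveI : (RingHom.ker ρ).IsMaximal := RingHom.ker_isMaximal_of_surjective ρ hρ
    haveI : Algebra.IsIntegral R IC := inferInstance
    refine PrimeSpectrum.ext ?_
    show ((maximalIdeal K).comap ρ).comap (algebraMap R IC) = maximalIdeal R
    rw [IsLocalRing.maximalIdeal_eq_bot, ← RingHom.ker_eq_comap_bot]
    exact IsLocalRing.eq_maximalIdeal (Ideal.isMaximal_comap_of_isIntegral_of_isMaximal (R := R) (RingHom.ker ρ))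
  let P := pullback.snd f (tI ≫ η)
  let ι := (Spec (CommRingCat.of IC)).fromSpecResidueField s'
  haveI := EtSite.preservesFiniteLimits_pull (pullback.fst P ι)
  have hq := q₀ Ω s' hs' q
  -- the base change
  have cI : IsPullback (a ≫ pullback.fst f η) (bW ≫ inv E) f (tI ≫ η) := by
    refine IsPullback.of_iso (cW.paste_horiz (IsPullback.of_hasPullback f η)) (Iso.refl _) (Iso.refl _)
      (asIso E).symm (Iso.refl _) ?_ ?_ ?_ ?_ <;> simp [← hEt]
  let u := cI.isoPullback.hom
  -- the residue field
  let σ := (Spec (CommRingCat.of IC)).descResidueField (Scheme.stalkClosedPointTo pt)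
  have hσ : Spec.map σ ≫ ι = pt :=
    Scheme.descResidueField_stalkClosedPointTo_fromSpecResidueField K _ pt
  haveI : IsIso σ := by
    refine (ConcreteCategory.isIso_iff_bijective σ).2 ⟨σ.hom.injective, fun k => ?_⟩
    obtain ⟨φ, hφ⟩ := Spec.map_surjective ι
    rw [← hφ, ← Spec.map_comp] at hσ
    obtain ⟨y, hy⟩ := hρ k
    exact ⟨φ y, (congr($(Spec.map_injective hσ) y)).trans hy⟩
  have hpt : pt ≫ E = Spec.map (CommRingCat.ofHom r) := by
    rw [← Spec.map_comp, ← CommRingCat.ofHom_comp]
    congr 2
    exact RingHom.ext fun x => congrArg r (e.symm_apply_apply x)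
  have cK : IsPullback j (bV ≫ Spec.map σ) (bW ≫ inv E) ι := by
    refine IsPullback.of_iso cV (Iso.refl _) (Iso.refl _) (asIso (Spec.map σ)) (asIso E).symm ?_ ?_ ?_ ?_
    all_goals simp [← hpt, ← hσ]
  have cJ : IsPullback (j ≫ u) (bV ≫ Spec.map σ) P ι := by
    refine IsPullback.of_iso cK (Iso.refl _) cI.isoPullback (Iso.refl _) (Iso.refl _) ?_ ?_ ?_ ?_
    all_goals simp [u, P]
  let v := cJ.isoPullback.hom
  exact bijective_Hpull_congr j ((EtCore.pullComp a (pullback.fst f η)).app F) q
    (bijective_Hpull_transport u v cI.isoPullback_hom_fst cJ.isoPullback_hom_fst F q hq)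

/-- Base change along a geometric point is invertible. -/
theorem isIso_bcQ_geomPt (hN : SpecHyp f F s R) {Z : Scheme.{u}} (ps : Z ⟶ Spec (CommRingCat.of (ResidueField R)))
    (k : Z ⟶ X) (c : IsPullback k ps f (Hens2.geomPt S s R)) [PreservesFiniteLimits (EtCoh.pull k)] (q : ℕ) :
    IsIso (EtBC.bcQ f (Hens2.geomPt S s R) ps k c.w q F) := by
  obtain ⟨_, _⟩ := StalkBC.henselian_strict s R
  let η := Hens2.specOf S s R
  let i₀ := Spec.map (CommRingCat.ofHom (residue R))
  let pR := pullback.snd f η
  let aR := pullback.fst f η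
  let i : Z ⟶ pullback f η := pullback.lift k (ps ≫ i₀) (c.w.trans (Category.assoc _ _ _).symm)
  have hik : i ≫ aR = k := pullback.lift_fst _ _ _
  have hip : i ≫ pR = ps ≫ i₀ := pullback.lift_snd _ _ _
  have cs : IsPullback i ps pR i₀ := by
    refine IsPullback.of_right (v₁₃ := f) (h₁₂ := aR) (h₂₂ := η) ?_ hip (IsPullback.of_hasPullback f η)
    exact hik.symm ▸ c
  haveI := EtSite.preservesFiniteLimits_pull i
  haveI := EtSite.preservesFiniteLimits_pull aR
  haveI := EtSite.preservesFiniteLimits_pull (i ≫ aR)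
  haveI : IsSepClosed (ResidueField (ResidueField R)) := AffineEfface.isSepClosed_residueField _
  have h2 : IsIso (EtBC.bcQ pR i₀ ps i cs.w q ((EtCoh.pull aR).obj F)) := by
    refine (StalkBC.isIso_iff_pb (Spec (CommRingCat.of (ResidueField R))) (fun z => ?_)
      (isSepClosed_residueField_spec _) _).2 ?_
    · rw [show ({z} : Set ↥(Spec (CommRingCat.of (ResidueField R)))) = Set.univ from
        Set.eq_univ_of_forall fun w => Subsingleton.elim (α := PrimeSpectrum (ResidueField R)) _ _]
      exact isClosed_univ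
    · exact (StalkBC.bijective_bcHom_iff (residue R) pR ps i cs.w _ q).1
        (bijective_closedFibre pR ((EtCoh.pull aR).obj F) i ps cs hN q)
  have h := L10.EtBCComp.isIso_bcQ_vcomp η f pR aR i₀ ps i
    (IsPullback.of_hasPullback f η).w cs.w (hik.symm ▸ c.w) F q
    (isIso_bcQ_specOf f s R pR aR (IsPullback.of_hasPullback f η) q F) h2
  exact L10.EtLocalBC.isIso_bcQ_congr f ps rfl hik _ c.w q F h

end Point

section Finite

variable {X S : Scheme.{u}} (f : X ⟶ S) [QuasiCompact f] [QuasiSeparated f] (F : EtCoh.Ab X)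
  {S₁ X₁ : Scheme.{u}} (g : S₁ ⟶ S) [IsIntegralHom g] (f₁ : X₁ ⟶ S₁) (g₁ : X₁ ⟶ X) (hsq : IsPullback g₁ f₁ f g)
  [PreservesFiniteLimits (EtCoh.pull g₁)]

include hsq in
/-- Higher direct images commute with integral base change. -/
theorem isIso_bcQ_integral
    (hN : ∀ (s : S) (R : Type u) [CommRing R] [IsLocalRing R] [Algebra (S.presheaf.stalk s) R]
      [IsLocalHom (algebraMap (S.presheaf.stalk s) R)] [Hensel.IsStrictHenselization (S.presheaf.stalk s) R],
      SpecHyp f F s R) (q : ℕ) :
    IsIso (EtBC.bcQ f g f₁ g₁ hsq.w q F) := by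
  haveI : QuasiCompact f₁ := MorphismProperty.of_isPullback (P := @QuasiCompact) hsq inferInstance
  haveI : QuasiSeparated f₁ := MorphismProperty.of_isPullback (P := @QuasiSeparated) hsq inferInstance
  refine StalkBC.isIso_of_pb _ fun x RX _ _ _ _ _ => ?_
  obtain ⟨_, _⟩ := StalkBC.henselian_strict x RX
  obtain ⟨RS, _, _, _, _, hRS⟩ := L05.Henselization.exists_isStrictHenselization (S.presheaf.stalk (g.base x))
  haveI := hRS
  obtain ⟨_, _⟩ := StalkBC.henselian_strict (g.base x) RS
  obtain ⟨ψ, _, hψ⟩ := StalkBC.exists_strictMap g x RS RX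
  have hψi := isIntegral_strictMap g x RS RX ψ hψ
  -- the hypothesis over the strict localization upstairs
  have hN₁ : SpecHyp f₁ ((EtCoh.pull g₁).obj F) x RX := by
    intro N _ _ _ _ _ hroots K _ r hr W V a bW cW j bV cV _ q
    letI : Algebra RS N := ((algebraMap RX N).comp ψ).toAlgebra
    haveI : Algebra.IsIntegral RS N :=
      algebraMap_isIntegral_iff.mp (RingHom.IsIntegral.trans ψ (algebraMap RX N) hψi
        (algebraMap_isIntegral_iff.mpr inferInstance))
    let ηS := Hens2.specOf S (g.base x) RS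
    let ηX := Hens2.specOf S₁ x RX
    let m : pullback f₁ ηX ⟶ pullback f ηS := pullback.lift (pullback.fst f₁ ηX ≫ g₁)
      (pullback.snd f₁ ηX ≫ Spec.map (CommRingCat.ofHom ψ)) (by
        rw [Category.assoc, hsq.w, ← Category.assoc, pullback.condition, Category.assoc, Category.assoc]
        exact congrArg (_ ≫ ·) (StalkBC.specOf_comp g x RS RX ψ hψ).symm)
    have hm : m ≫ pullback.fst f ηS = pullback.fst f₁ ηX ≫ g₁ := pullback.lift_fst _ _ _
    have cm : IsPullback m (pullback.snd f₁ ηX) (pullback.snd f ηS) (Spec.map (CommRingCat.ofHom ψ)) := by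
      refine IsPullback.of_right (v₁₃ := f) (h₁₂ := pullback.fst f ηS) (h₂₂ := ηS) ?_ (pullback.lift_snd _ _ _)
        (IsPullback.of_hasPullback f ηS)
      exact isPullback_congr hm.symm (StalkBC.specOf_comp g x RS RX ψ hψ).symm
        ((IsPullback.of_hasPullback f₁ ηX).paste_horiz hsq)
    have hW : IsPullback (a ≫ m) bW (pullback.snd f ηS) (Spec.map (CommRingCat.ofHom (algebraMap RS N))) := by
      rw [show CommRingCat.ofHom (algebraMap RS N) = CommRingCat.ofHom ψ ≫ CommRingCat.ofHom (algebraMap RX N) from rfl,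
        Spec.map_comp]
      exact cW.paste_horiz cm
    have h := hN (g.base x) RS N hroots K r hr W V (a ≫ m) bW hW j bV cV q
    refine bijective_Hpull_congr j ?_ q h
    exact ((EtCore.pullComp (a ≫ m) (pullback.fst f ηS)).app F).symm ≪≫
      (EtCore.pullCongr ((Category.assoc _ _ _).trans ((congrArg (a ≫ ·) hm).trans (Category.assoc _ _ _).symm))).app F ≪≫
      (EtCore.pullComp (a ≫ pullback.fst f₁ ηX) g₁).app F ≪≫
      (EtCore.pullComp a (pullback.fst f₁ ηX)).app ((EtCoh.pull g₁).obj F)
  -- pass to the geometric point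
  let ξ := Hens2.geomPt S₁ x RX
  let Z := pullback f₁ ξ
  let k := pullback.fst f₁ ξ
  let j := pullback.snd f₁ ξ
  haveI := EtSite.preservesFiniteLimits_pull k
  haveI := EtSite.preservesFiniteLimits_pull (k ≫ g₁)
  have h2 := isIso_bcQ_geomPt f₁ ((EtCoh.pull g₁).obj F) x RX hN₁ j k (IsPullback.of_hasPullback f₁ ξ) q
  let σ := ResidueField.map ψ
  let γ := Hens2.geomPt S (g.base x) RS
  let ps := pullback.snd f γ
  let kS := pullback.fst f γ
  haveI := EtSite.preservesFiniteLimits_pull kS
  have hres : Spec.map (CommRingCat.ofHom σ) ≫ Spec.map (CommRingCat.ofHom (residue RS)) =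
      Spec.map (CommRingCat.ofHom (residue RX)) ≫ Spec.map (CommRingCat.ofHom ψ) := by
    rw [← Spec.map_comp, ← Spec.map_comp]; rfl
  have hσ : Spec.map (CommRingCat.ofHom σ) ≫ γ = ξ ≫ g :=
    (Category.assoc _ _ _).symm.trans ((congrArg (· ≫ Hens2.specOf S (g.base x) RS) hres).trans
      ((Category.assoc _ _ _).trans ((congrArg (Spec.map (CommRingCat.ofHom (residue RX)) ≫ ·)
        (StalkBC.specOf_comp g x RS RX ψ hψ)).trans (Category.assoc _ _ _).symm)))
  let ℓ : Z ⟶ pullback f γ := pullback.lift (k ≫ g₁) (j ≫ Spec.map (CommRingCat.ofHom σ)) (by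
    rw [Category.assoc, hsq.w]
    exact (Category.assoc _ _ _).symm.trans ((congrArg (· ≫ g) pullback.condition).trans
      ((Category.assoc _ _ _).trans ((congrArg (j ≫ ·) hσ.symm).trans (Category.assoc _ _ _).symm))))
  have hℓ : ℓ ≫ kS = k ≫ g₁ := pullback.lift_fst _ _ _
  have cℓ : IsPullback ℓ j ps (Spec.map (CommRingCat.ofHom σ)) := by
    refine IsPullback.of_right (v₁₃ := f) (h₁₂ := kS) (h₂₂ := γ) ?_ (pullback.lift_snd _ _ _)
      (IsPullback.of_hasPullback f γ)
    exact isPullback_congr hℓ.symm hσ.symm ((IsPullback.of_hasPullback f₁ ξ).paste_horiz hsq)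
  haveI := EtSite.preservesFiniteLimits_pull ℓ
  haveI := EtSite.preservesFiniteLimits_pull (ℓ ≫ kS)
  haveI : IsSepClosed (ResidueField (ResidueField RS)) := AffineEfface.isSepClosed_residueField _
  haveI : IsSepClosed (ResidueField (ResidueField RX)) := AffineEfface.isSepClosed_residueField _
  -- the residue extension is radicial
  letI : Algebra (ResidueField RS) (ResidueField RX) := σ.toAlgebra
  haveI : Algebra.IsAlgebraic (ResidueField RS) (ResidueField RX) := by
    haveI : Algebra.IsIntegral (ResidueField RS) (ResidueField RX) := by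
      refine algebraMap_isIntegral_iff.mp (RingHom.IsIntegral.tower_top (residue RS) σ ?_)
      have e : σ.comp (residue RS) = (residue RX).comp ψ := RingHom.ext fun _ => rfl
      rw [e]
      exact RingHom.IsIntegral.trans ψ _ hψi ((residue RX).isIntegral_of_surjective IsLocalRing.residue_surjective)
    infer_instance
  haveI := Groth.L05.isPurelyInseparable_of_isSepClosed_base (ResidueField RS) (ResidueField RX)
  haveI hui : UniversallyInjective (Spec.map (CommRingCat.ofHom σ)) :=
    L05.CurveNorm.universallyInjective_ext (ResidueField RS) (ResidueField RX)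
  haveI : Surjective (Spec.map (CommRingCat.ofHom σ)) :=
    L05.CurveNorm.surjective_ext (ResidueField RS) (ResidueField RX)
  haveI : IsIntegralHom (Spec.map (CommRingCat.ofHom σ)) := by
    rw [IsIntegralHom.SpecMap_iff]
    exact algebraMap_isIntegral_iff.mpr inferInstance
  haveI : IsIntegralHom ℓ := MorphismProperty.of_isPullback (P := @IsIntegralHom) cℓ.flip inferInstance
  haveI : UniversallyInjective ℓ := MorphismProperty.of_isPullback (P := @UniversallyInjective) cℓ.flip inferInstance
  haveI : Surjective ℓ := MorphismProperty.of_isPullback (P := @Surjective) cℓ.flip inferInstance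
  haveI : IsLocalHom σ := ⟨fun a ha => (isUnit_map_iff σ a).1 ha⟩
  have hbot : IsIso (EtBC.bcQ ps (Spec.map (CommRingCat.ofHom σ)) j ℓ cℓ.w q ((EtCoh.pull kS).obj F)) := by
    refine (StalkBC.isIso_iff_pb (Spec (CommRingCat.of (ResidueField RX))) (fun z => ?_)
      (isSepClosed_residueField_spec _) _).2 ?_
    · rw [show ({z} : Set ↥(Spec (CommRingCat.of (ResidueField RX)))) = Set.univ from
        Set.eq_univ_of_forall fun w => Subsingleton.elim (α := PrimeSpectrum (ResidueField RX)) _ _]
      exact isClosed_univ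
    · exact (StalkBC.bijective_bcHom_iff σ ps j ℓ cℓ.w _ q).1 (bijective_Hpull_univHomeo ℓ _ q)
  have htop := isIso_bcQ_geomPt f F (g.base x) RS (hN (g.base x) RS) ps kS (IsPullback.of_hasPullback f γ) q
  have wc : (ℓ ≫ kS) ≫ f = j ≫ Spec.map (CommRingCat.ofHom σ) ≫ γ := by
    rw [hℓ, hσ, Category.assoc, hsq.w, ← Category.assoc, pullback.condition, Category.assoc]
  have hout := L10.EtBCComp.isIso_bcQ_vcomp γ f ps kS (Spec.map (CommRingCat.ofHom σ)) j ℓ
    (IsPullback.of_hasPullback f γ).w cℓ.w wc F q htop hbot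
  have wg : (k ≫ g₁) ≫ f = j ≫ ξ ≫ g := by
    rw [Category.assoc, hsq.w, ← Category.assoc, pullback.condition, Category.assoc]
  have hout' := L10.EtLocalBC.isIso_bcQ_congr f j hσ hℓ wc wg q F hout
  haveI := (L10.EtBCComp.isIso_bcQ_vcomp_iff g f f₁ g₁ ξ j k hsq.w pullback.condition wg F q h2).1 hout'
  -- back to the strict localization
  let ηX := Hens2.specOf S₁ x RX
  let φ := EtBC.bcQ f g f₁ g₁ hsq.w q F
  refine (StalkBC.pb_iff_top _).2 ?_
  let i₁ := Spec.map (CommRingCat.ofHom (residue RX))
  haveI : IsIso ((EtCoh.pull i₁).map ((EtCoh.pull ηX).map φ)) :=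
    (NatIso.isIso_map_iff (EtCore.pullComp i₁ ηX) φ).1 ‹_›
  exact (StalkBC.pb_iff_top _).1 (pb_of_isIso_residue RX ((EtCoh.pull ηX).map φ))

end Finite

end Groth.L27.FinBC
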